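import Cfsg.Agent.H33.RD
import Cfsg.Agent.Blocks.CentralizerSum
import Cfsg.Agent.H649.PairInduced
import Cfsg.Agent.H593.D1Sec
import Cfsg.Agent.Characters.Linear
import Cfsg.Agent.S0187
import Cfsg.Agent.S0907
import Cfsg.Agent.S0924
import Cfsg.Agent.S0968
import Cfsg.Agent.S0969
import Cfsg.Agent.S4714

/-!
# A block of defect one with a centralizer `⟨u⟩ × T` (helper66)

`u` of order `p`, `C = C_G(u) = ⟨u⟩ × T` and `θ` an irreducible character of `T` of `p`-defect zero, invariant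
under the normalizer of `⟨u⟩`: the block of `G` induced by the block of `θ' = 1 × θ` has defect group `⟨u⟩`
(`exists_block`).  For `p = 3` and `u` inverted by an element centralizing `T`, exactly three characters of
the block do not vanish at `u`; their values at `u t` are `± θ t` (`three_characters`).
-/

set_option autoImplicit false

namespace Cfsg.Agent.H66.LD.Three

open Cfsg
open Cfsg.Agent.Blocks.Basic Cfsg.Agent.Blocks.Local
open Cfsg.Agent.Characters.Core
open scoped ComplexConjugate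

universe v

variable {G : Type v} [Group G]

local notation "Cn(" Q ")" => Subgroup.centralizer ((Q : Subgroup G) : Set G)

/-! ### The structure of the centralizer -/

theorem exists_equiv [Finite G] {p : ℕ} [hp : Fact p.Prime] {u : G} (hu : orderOf u = p) {C T : Subgroup G}
    (hC : C = Subgroup.centralizer ({u} : Set G)) (hTC : T ≤ C)
    (hcard : Nat.card C = p * Nat.card T) (huT : u ∉ T) :
    ∃ E : (Subgroup.zpowers u) × T ≃* C, ∀ (x : Subgroup.zpowers u) (t : T), ((E (x, t) : C) : G) = x * t := by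
  have huC : ∀ x ∈ Subgroup.zpowers u, ∀ t ∈ C, x * t = t * x := by
    intro x hx t ht
    rw [hC, Subgroup.mem_centralizer_singleton_iff] at ht
    obtain ⟨k, rfl⟩ := Subgroup.mem_zpowers_iff.1 hx
    have h1 : Commute t u := ht
    exact (h1.zpow_right k).eq.symm
  have hxC : Subgroup.zpowers u ≤ C := by
    rw [Subgroup.zpowers_le, hC, Subgroup.mem_centralizer_singleton_iff]
  have hPcard : Nat.card (Subgroup.zpowers u) = p := by rw [Nat.card_zpowers, hu]
  let f : (Subgroup.zpowers u) × T →* C :=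
    { toFun := fun q => ⟨(q.1 : G) * q.2, mul_mem (hxC q.1.2) (hTC q.2.2)⟩
      map_one' := by
        apply Subtype.ext
        change (((1 : (Subgroup.zpowers u) × T).1 : Subgroup.zpowers u) : G) *
          (((1 : (Subgroup.zpowers u) × T).2 : T) : G) = 1
        rw [Prod.fst_one, Prod.snd_one, Subgroup.coe_one, Subgroup.coe_one, mul_one]
      map_mul' := by
        intro q r
        apply Subtype.ext
        change (((q * r).1 : Subgroup.zpowers u) : G) * (((q * r).2 : T) : G) =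
          ((q.1 : G) * q.2) * ((r.1 : G) * r.2)
        rw [Prod.fst_mul, Prod.snd_mul, Subgroup.coe_mul, Subgroup.coe_mul]
        have h1 := huC r.1 r.1.2 q.2 (hTC q.2.2)
        calc (q.1 : G) * r.1 * (q.2 * r.2) = q.1 * ((r.1 : G) * q.2) * r.2 := by group
          _ = q.1 * ((q.2 : G) * r.1) * r.2 := by rw [h1]
          _ = _ := by group }
  have hdis : T.subgroupOf (Subgroup.zpowers u) = ⊥ := by
    have : Fact (Nat.card (Subgroup.zpowers u)).Prime := ⟨by rw [hPcard]; exact hp.out⟩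
    rcases Subgroup.eq_bot_or_eq_top_of_prime_card (T.subgroupOf (Subgroup.zpowers u)) with h | h
    · exact h
    · exfalso
      apply huT
      have h1 : (⟨u, Subgroup.mem_zpowers u⟩ : Subgroup.zpowers u) ∈ T.subgroupOf (Subgroup.zpowers u) := by
        rw [h]; exact Subgroup.mem_top _
      exact Subgroup.mem_subgroupOf.1 h1
  have hinj : Function.Injective f := by
    rw [injective_iff_map_eq_one]
    rintro ⟨x, t⟩ h
    have h1 : (x : G) * t = 1 := congrArg Subtype.val h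
    have h2 : (x : G) ∈ T := by
      rw [eq_inv_of_mul_eq_one_left h1]
      exact inv_mem t.2
    have h3 : x ∈ T.subgroupOf (Subgroup.zpowers u) := Subgroup.mem_subgroupOf.2 h2
    rw [hdis, Subgroup.mem_bot] at h3
    have h4 : t = 1 := by
      apply Subtype.ext
      rw [h3, Subgroup.coe_one, one_mul] at h1
      rw [h1, Subgroup.coe_one]
    rw [h3, h4]
    rfl
  have hbij : Function.Bijective f := by
    refine Function.Injective.bijective_of_nat_card_le hinj ?_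
    rw [Nat.card_prod, hPcard, hcard]
  exact ⟨MulEquiv.ofBijective f hbij, fun x t => rfl⟩

theorem sum_zpowers [Finite G] {u : G} [Fintype (Subgroup.zpowers u)] (hu : orderOf u = 3)
    (F : G → ℂ) : ∑ x : Subgroup.zpowers u, F x = F 1 + F u + F (u ^ 2) := by
  have h1 : ∑ x : Subgroup.zpowers u, F x = ∑ i : Fin (orderOf u), F (u ^ (i : ℕ)) := by
    refine (Fintype.sum_equiv (finEquivZPowers (isOfFinOrder_of_finite u)) _ _ fun i => ?_).symm
    rw [finEquivZPowers_apply]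
  rw [h1, Fin.sum_univ_eq_sum_range (fun i => F (u ^ i)) (orderOf u), hu, Finset.sum_range_succ,
    Finset.sum_range_succ, Finset.sum_range_one, pow_zero, pow_one]

/-- A linear character of `⟨u⟩` with value `ω` at `u`. -/
theorem exists_linear {u : G} (hu : orderOf u = 3) {ω : ℂ} (hω : ω ^ 3 = 1) :
    ∃ μ : Subgroup.zpowers u →* ℂˣ, ((μ ⟨u, Subgroup.mem_zpowers u⟩ : ℂˣ) : ℂ) = ω := by
  have h0 : ω ≠ 0 := by
    rintro rfl
    norm_num at hω
  let g : Subgroup.zpowers u := ⟨u, Subgroup.mem_zpowers u⟩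
  have hg : ∀ x, x ∈ Subgroup.zpowers g := by
    rintro ⟨x, hx⟩
    obtain ⟨k, rfl⟩ := Subgroup.mem_zpowers_iff.1 hx
    exact Subgroup.mem_zpowers_iff.2 ⟨k, Subtype.ext (by simp [g])⟩
  have h1 : orderOf (Units.mk0 ω h0) ∣ orderOf g := by
    have h2 : orderOf g = 3 := by rw [← hu]; exact Subgroup.orderOf_mk u _
    rw [h2]
    refine orderOf_dvd_of_pow_eq_one (Units.ext ?_)
    rw [Units.val_pow_eq_pow_val, Units.val_mk0, hω, Units.val_one]
  refine ⟨monoidHomOfForallMemZpowers hg h1, ?_⟩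
  change ((monoidHomOfForallMemZpowers hg h1 g : ℂˣ) : ℂ) = ω
  rw [monoidHomOfForallMemZpowers_apply_gen, Units.val_mk0]

/-- The inner product of `t ↦ χ (u t)` with a character of `T` is an integer, when `u` is inverted by an
element centralizing `T`. -/
theorem exists_int [Finite G] {u : G} (hu : orderOf u = 3) {C T : Subgroup G} [Fintype T]
    (E : (Subgroup.zpowers u) × T ≃* C)
    (hE : ∀ (x : Subgroup.zpowers u) (t : T), ((E (x, t) : C) : G) = x * t)
    {θ : T → ℂ} (hθ : IsCharacter T θ) {n : G} (hn : n * u * n⁻¹ = u⁻¹) (hnT : ∀ t ∈ T, n * t * n⁻¹ = t)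
    {χ : G → ℂ} (hχ : IsCharacter G χ) :
    ∃ a : ℤ, classInner (fun t : T => χ (u * t)) θ = a := by
  have : Fintype C := Fintype.ofFinite C
  have : Fintype (Subgroup.zpowers u) := Fintype.ofFinite _
  obtain ⟨ω, hω3, hω1⟩ : ∃ ω : ℂ, ω ^ 3 = 1 ∧ ω ^ 2 + ω + 1 = 0 := by
    refine ⟨Complex.exp (2 * Real.pi * Complex.I / (3 : ℕ)), ?_, ?_⟩
    · exact (Complex.isPrimitiveRoot_exp 3 (by norm_num)).pow_eq_one
    · have h := (Complex.isPrimitiveRoot_exp 3 (by norm_num)).geom_sum_eq_zero (by norm_num)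
      rw [Finset.sum_range_succ, Finset.sum_range_succ, Finset.sum_range_one, pow_zero, pow_one] at h
      linear_combination h
  have hωc : conj ω = ω ^ 2 := by
    have h1 : ω * conj ω = 1 := by
      rw [Complex.mul_conj, Complex.normSq_eq_norm_sq,
        Complex.norm_eq_one_of_pow_eq_one hω3 (by norm_num)]
      norm_num
    have h0 : ω ≠ 0 := by
      rintro rfl
      norm_num at hω3
    apply mul_left_cancel₀ h0
    rw [h1, ← hω3]
    ring
  obtain ⟨μ, hμ⟩ := exists_linear hu hω3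
  have hμx : ∀ i : ℕ, ∀ hi : u ^ i ∈ Subgroup.zpowers u, ((μ ⟨u ^ i, hi⟩ : ℂˣ) : ℂ) = ω ^ i := by
    intro i hi
    have h1 : (⟨u ^ i, hi⟩ : Subgroup.zpowers u) = ⟨u, Subgroup.mem_zpowers u⟩ ^ i :=
      Subtype.ext (by simp)
    rw [h1, map_pow, Units.val_pow_eq_pow_val, hμ]
  -- the two characters of `C`
  have hf1 : IsCharacter C (θ ∘ ((MonoidHom.snd (Subgroup.zpowers u) T).comp E.symm.toMonoidHom)) :=
    isCharacter_comp _ hθ
  have hf2 : IsCharacter C ((fun x => ((μ x : ℂˣ) : ℂ)) ∘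
      ((MonoidHom.fst (Subgroup.zpowers u) T).comp E.symm.toMonoidHom)) :=
    isCharacter_comp _ (Characters.Linear.isCharacter_hom μ)
  have hres : IsCharacter C (χ ∘ C.subtype) := isCharacter_comp C.subtype hχ
  obtain ⟨m0, hm0⟩ := classInner_isNat hres hf1
  obtain ⟨m1, hm1⟩ := classInner_isNat hres (isCharacter_mul hf2 hf1)
  -- the sums
  have hsum : ∀ F : (Subgroup.zpowers u) × T → ℂ, ∑ c : C, F (E.symm c) = ∑ x, ∑ t, F (x, t) := by
    intro F
    rw [← Fintype.sum_prod_type]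
    exact Fintype.sum_equiv E.symm.toEquiv _ _ fun c => rfl
  obtain ⟨S, hS⟩ : ∃ S : G → ℂ, ∀ x, S x = ∑ t : T, χ (x * t) * conj (θ t) := ⟨_, fun x => rfl⟩
  have hSinv : S (u ^ 2) = S u := by
    rw [hS, hS]
    refine Finset.sum_congr rfl fun t _ => ?_
    have h1 : n * (u * t) * n⁻¹ = u ^ 2 * t := by
      have h2 : n * (u * t) * n⁻¹ = (n * u * n⁻¹) * (n * t * n⁻¹) := by group
      rw [h2, hn, hnT t t.2]
      have h3 : u ^ 2 = u⁻¹ := by
        rw [eq_inv_iff_mul_eq_one, ← pow_succ]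
        have h4 := pow_orderOf_eq_one u
        rwa [hu] at h4
      rw [h3]
    rw [← h1, isCharacter_isClassFunction hχ]
  have hA : ∑ c : C, (χ ∘ C.subtype) c *
      conj ((θ ∘ ((MonoidHom.snd (Subgroup.zpowers u) T).comp E.symm.toMonoidHom)) c) =
      S 1 + S u + S (u ^ 2) := by
    rw [← sum_zpowers hu S]
    simp only [hS]
    rw [← hsum (fun q => χ ((q.1 : G) * q.2) * conj (θ q.2))]
    refine Finset.sum_congr rfl fun c _ => ?_
    have h1 : (c : G) = ((E.symm c).1 : G) * (E.symm c).2 := by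
      rw [← hE, Prod.mk.eta, MulEquiv.apply_symm_apply]
    change χ (c : G) * conj (θ (E.symm c).2) = _
    rw [← h1]
  have hB : ∑ c : C, (χ ∘ C.subtype) c *
      conj ((((fun x => ((μ x : ℂˣ) : ℂ)) ∘
      ((MonoidHom.fst (Subgroup.zpowers u) T).comp E.symm.toMonoidHom)) *
        (θ ∘ ((MonoidHom.snd (Subgroup.zpowers u) T).comp E.symm.toMonoidHom))) c) =
      S 1 + ω ^ 2 * S u + ω * S (u ^ 2) := by
    classical
    have h1 : ∑ c : C, (χ ∘ C.subtype) c *
      conj ((((fun x => ((μ x : ℂˣ) : ℂ)) ∘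
      ((MonoidHom.fst (Subgroup.zpowers u) T).comp E.symm.toMonoidHom)) *
        (θ ∘ ((MonoidHom.snd (Subgroup.zpowers u) T).comp E.symm.toMonoidHom))) c) =
        ∑ x : Subgroup.zpowers u, conj ((μ x : ℂˣ) : ℂ) * S x := by
      simp only [hS, Finset.mul_sum]
      rw [← hsum (fun q => conj ((μ q.1 : ℂˣ) : ℂ) * (χ ((q.1 : G) * q.2) * conj (θ q.2)))]
      refine Finset.sum_congr rfl fun c _ => ?_
      have h1 : (c : G) = ((E.symm c).1 : G) * (E.symm c).2 := by
        rw [← hE, Prod.mk.eta, MulEquiv.apply_symm_apply]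
      change χ (c : G) * conj (((μ (E.symm c).1 : ℂˣ) : ℂ) * θ (E.symm c).2) = _
      rw [← h1, map_mul]
      ring
    rw [h1]
    have h2 := sum_zpowers hu (fun x : G => if hx : x ∈ Subgroup.zpowers u then
      conj ((μ ⟨x, hx⟩ : ℂˣ) : ℂ) * S x else 0)
    have h3 : ∑ x : Subgroup.zpowers u, (fun x : G => if hx : x ∈ Subgroup.zpowers u then
      conj ((μ ⟨x, hx⟩ : ℂˣ) : ℂ) * S x else 0) x = ∑ x : Subgroup.zpowers u, conj ((μ x : ℂˣ) : ℂ) * S x := by
      refine Finset.sum_congr rfl fun x _ => ?_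
      simp only [x.2, dif_pos]
    rw [h3] at h2
    rw [h2]
    have e0 : (1 : G) ∈ Subgroup.zpowers u := one_mem _
    have e1 : u ∈ Subgroup.zpowers u := Subgroup.mem_zpowers u
    have e2 : u ^ 2 ∈ Subgroup.zpowers u := pow_mem e1 2
    simp only [e0, e1, e2, dif_pos]
    have k0 : ((μ ⟨1, e0⟩ : ℂˣ) : ℂ) = 1 := by
      have : (⟨1, e0⟩ : Subgroup.zpowers u) = 1 := rfl
      rw [this, map_one, Units.val_one]
    rw [k0, hμx 2 e2, hμ, map_one, map_pow, hωc]
    have h5 : (ω ^ 2) ^ 2 = ω := by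
      calc (ω ^ 2) ^ 2 = ω ^ 3 * ω := by ring
        _ = ω := by rw [hω3, one_mul]
    rw [h5]
    ring
  rw [Characters.Core.classInner_def, hA] at hm0
  rw [Characters.Core.classInner_def, hB] at hm1
  rw [hSinv] at hm0 hm1
  have hcardC : (Nat.card C : ℂ) = 3 * Nat.card T := by
    rw [← Nat.card_congr E.toEquiv, Nat.card_prod, Nat.card_zpowers, hu]
    push_cast
    ring
  have hT0 : (Nat.card T : ℂ) ≠ 0 := by exact_mod_cast Nat.card_pos.ne'
  refine ⟨(m0 : ℤ) - m1, ?_⟩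
  rw [Characters.Core.classInner_def]
  change (Nat.card T : ℂ)⁻¹ * ∑ t : T, χ (u * t) * conj (θ t) = _
  rw [← hS]
  push_cast
  rw [← hm0, ← hm1, hcardC]
  have h6 : ω ^ 2 + ω = -1 := by linear_combination hω1
  field_simp
  linear_combination (S u) * h6

/-! ### The block -/

/-- Elements of `p`-power order normalizing `⟨u⟩` centralize it. -/
theorem mem_centralizer_of_pow [Finite G] {p : ℕ} [hp : Fact p.Prime] {u : G} (hu : orderOf u = p) {g : G}
    (hg : g ∈ Subgroup.normalizer ((Subgroup.zpowers u : Subgroup G) : Set G)) (hk : ∃ k : ℕ, orderOf g = p ^ k) :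
    g ∈ Subgroup.centralizer ((Subgroup.zpowers u : Subgroup G) : Set G) := by
  obtain ⟨j, hj⟩ := hk
  have h1 : g * u * g⁻¹ ∈ Subgroup.zpowers u :=
    (Subgroup.mem_normalizer_iff.1 hg u).1 (Subgroup.mem_zpowers u)
  obtain ⟨k, hk⟩ := mem_powers_iff_mem_zpowers.2 h1
  have hk : u ^ k = g * u * g⁻¹ := hk
  have h2 : ∀ m : ℕ, g ^ m * u * (g ^ m)⁻¹ = u ^ (k ^ m) := by
    intro m
    induction m with
    | zero => simp
    | succ m ih =>
      calc g ^ (m + 1) * u * (g ^ (m + 1))⁻¹ = g * (g ^ m * u * (g ^ m)⁻¹) * g⁻¹ := by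
            rw [pow_succ' g]; group
        _ = (g * u * g⁻¹) ^ (k ^ m) := by rw [ih, conj_pow]
        _ = u ^ (k ^ (m + 1)) := by rw [← hk, ← pow_mul, pow_succ']
  have h3 := h2 (orderOf g)
  rw [pow_orderOf_eq_one, hj, one_mul, inv_one, mul_one] at h3
  have h4 : u ^ 1 = u ^ (k ^ p ^ j) := by rw [pow_one]; exact h3
  rw [pow_eq_pow_iff_modEq, hu] at h4
  have h5 := (ZMod.natCast_eq_natCast_iff _ _ _).2 h4
  push_cast at h5
  rw [ZMod.pow_card_pow] at h5
  have h6 : k ≡ 1 [MOD p] := (ZMod.natCast_eq_natCast_iff _ _ _).1 (by push_cast; exact h5.symm)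
  rw [← hu, ← pow_eq_pow_iff_modEq, hk, pow_one] at h6
  rw [Subgroup.zpowers_eq_closure, Subgroup.centralizer_closure, Subgroup.mem_centralizer_singleton_iff]
  exact mul_inv_eq_iff_eq_mul.1 h6

/-- The block of `G` induced by the block of an irreducible character `θ'` of `C = C_G(u)`, with `u` in its
kernel, of defect zero modulo `u` and invariant under the normalizer. -/
theorem exists_block [Finite G] {p : ℕ} [hp : Fact p.Prime] {M : Ideal AlgInt} (hM : IsPModular p M)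
    {z : G} (hz : orderOf z = p) {C : Subgroup G} (hC : C = Subgroup.centralizer ({z} : Set G))
    (θ : IrrCharacter C)
    (hker : ∀ y : C, (y : G) ∈ Subgroup.zpowers z → (θ : C → ℂ) y = (θ : C → ℂ) 1)
    (hdeg : (Nat.card C).factorization p ≤ (charDegree (θ : C → ℂ)).factorization p + 1)
    (hconj : ∀ n ∈ Subgroup.normalizer ((Subgroup.zpowers z : Subgroup G) : Set G), ∀ c c' : C,
      (c' : G) = n * (c : G) * n⁻¹ → (θ : C → ℂ) c' = (θ : C → ℂ) c) :
    ∃ B : Set (IrrCharacter G), IsPBlock M B ∧ IsDefectGroup p M B (Subgroup.zpowers z) ∧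
      IsInducedBlock M C (blockOf M (θ : C → ℂ)) B ∧
      ∀ y y' : C, ¬ p ∣ orderOf y → ¬ p ∣ orderOf y' →
        ∑ᶠ ζ ∈ B, (ζ : G → ℂ) (z * (y : G)) * conj ((ζ : G → ℂ) (z * (y' : G))) =
          p * ((θ : C → ℂ) y * conj ((θ : C → ℂ) y')) := by
  classical
  obtain ⟨Q, hQ⟩ : ∃ Q : Subgroup G, Q = Subgroup.zpowers z := ⟨_, rfl⟩
  have hCz : Cn(Q) = Subgroup.centralizer ({z} : Set G) := by
    rw [hQ, Subgroup.zpowers_eq_closure, Subgroup.centralizer_closure]
  have hCQ : C = Cn(Q) := hC.trans hCz.symm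
  subst hCQ
  rw [← hQ] at hker hconj ⊢
  have : M.IsPrime := isPrime_of_isPModular hM
  have hQcard : Nat.card Q = p := by rw [hQ, Nat.card_zpowers, hz]
  have hQp : IsPGroup p Q := IsPGroup.of_card (n := 1) (by rw [hQcard, pow_one])
  have hQC : Q ≤ Cn(Q) := by
    rw [hCz, hQ, Subgroup.zpowers_le, Subgroup.mem_centralizer_singleton_iff]
  obtain ⟨e, he⟩ : ∃ e : Set (IrrCharacter Cn(Q)), e = blockOf M (θ : Cn(Q) → ℂ) := ⟨_, rfl⟩
  have heB : IsPBlock M e := ⟨θ, he⟩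
  have hθe : θ ∈ e := by rw [he]; exact mem_blockOf_self θ
  rw [← he]
  -- `Q` inside `Cn(Q)`
  obtain ⟨D, hD⟩ : ∃ D : Subgroup Cn(Q), D = Q.subgroupOf Cn(Q) := ⟨_, rfl⟩
  have hDZ : D ≤ Subgroup.center Cn(Q) := by
    rw [hD]; exact Cfsg.Agent.H686.PairCrit.subgroupOf_le_center Q
  have hDcard : Nat.card D = p := by
    rw [hD, Nat.card_congr (Subgroup.subgroupOfEquivOfLe hQC).toEquiv, hQcard]
  have hDp : IsPGroup p D := IsPGroup.of_card (n := 1) (by rw [hDcard, pow_one])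
  have hDn : D.Normal := by
    constructor
    intro x hx g
    have h1 := Subgroup.mem_center_iff.1 (hDZ hx) g
    rw [h1, mul_inv_cancel_right]
    exact hx
  have hDcomm : ∀ a b : D, a * b = b * a := fun a b =>
    Subtype.ext ((Subgroup.mem_center_iff.1 (hDZ a.2) b).symm)
  have hrev : (charDegree (θ : Cn(Q) → ℂ)).factorization p ≤ D.index.factorization p := by
    obtain ⟨d, ρ, hρ, hχ⟩ := θ.2
    have hdvd := Cfsg.Agent.S0169.result ρ D (fun a ha b _ => ((Subgroup.mem_center_iff.1 (hDZ ha)) b).symm)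
    have h2 : charDegree (θ : Cn(Q) → ℂ) = d := by
      apply H670.PSing.charDegree_eq_of
      rw [← hχ, Representation.char_one]
      simp
    rw [Module.finrank_fin_fun, ← h2] at hdvd
    exact (Nat.factorization_le_iff_dvd (charDegree_pos θ.2).ne' Subgroup.index_ne_zero_of_finite).2 hdvd p
  have hCf : (Nat.card Cn(Q)).factorization p = 1 + D.index.factorization p := by
    rw [← D.card_mul_index, Nat.factorization_mul Nat.card_pos.ne' Subgroup.index_ne_zero_of_finite,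
      Finsupp.add_apply, hDcard, hp.out.factorization_self]
  have hθdeg : (charDegree (θ : Cn(Q) → ℂ)).factorization p = D.index.factorization p := by omega
  -- the block of `G`
  obtain ⟨B, hB⟩ := Cfsg.Agent.H686.PairCrit.crit_mpr hM (Q := Q) (e := e) ⟨hQp, heB⟩ hθe (by
      have h3 : Nat.card ↥(Q ⊓ Cn(Q)) = p := by rw [inf_eq_left.2 hQC, hQcard]
      rw [h3, hp.out.factorization_self]
      omega)
    (fun g hg _ hk => (le_sup_right : Cn(Q) ≤ _) (by
      rw [hQ] at hg ⊢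
      exact mem_centralizer_of_pow hz hg hk))
  have hBb : IsPBlock M B := hB.1.2.1
  have hdef := Cfsg.Agent.H644.isDefectGroup_of_isMaximalBrauerPair hM hB
  have hind : IsInducedBlock M Cn(Q) e B :=
    (Cfsg.Agent.H649.isBrauerPairOf_iff_isInducedBlock hM hBb hQp heB).1 hB.1
  refine ⟨B, hBb, hdef, hind, ?_⟩
  -- the characters of `Cn(Q)` whose block induces `B`
  have hA : ∀ ξ : IrrCharacter Cn(Q), ξ ∈ e ↔ IsInducedBlock M Cn(Q) (blockOf M (ξ : Cn(Q) → ℂ)) B := by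
    intro ξ
    constructor
    · intro hξ
      rw [← isPBlock_eq_blockOf heB hξ]
      exact hind
    · intro hξ
      obtain ⟨n, hn, h1⟩ := Cfsg.Agent.H593.D1Sec.extended_first_main hM hBb Q Cn(Q)
        (le_antisymm le_sup_right (sup_le hQC le_rfl)) hdef hind hξ
      obtain ⟨θ', hθ', h2⟩ := h1 θ hθe
      have h3 : θ' = θ := by
        apply Subtype.ext
        funext x
        have hx : n * (x : G) * n⁻¹ ∈ Cn(Q) := Cfsg.Agent.H593.D1Local.conj_mem_centralizer hn x.2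
        rw [h2 x hx]
        exact hconj n hn x ⟨_, hx⟩ rfl
      rw [h3] at hθ'
      have h4 : e = blockOf M (ξ : Cn(Q) → ℂ) :=
        isPBlock_eq_of_mem heB (isPBlock_blockOf ξ) hθe hθ'
      rw [h4]
      exact mem_blockOf_self ξ
  -- the members of `e`
  have hDef : IsDefectGroup p M e D := by
    rw [he]
    exact (Cfsg.Agent.S0969.result p M hM D hDp hDZ θ hθdeg).1
  have hDtop : D ⊔ Subgroup.centralizer (D : Set Cn(Q)) = ⊤ := by
    rw [eq_top_iff]
    refine le_trans ?_ le_sup_right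
    intro c _
    rw [Subgroup.mem_centralizer_iff]
    intro d hd
    exact (Subgroup.mem_center_iff.1 (hDZ hd) c).symm
  have hcard : Nat.card e = p := by
    rw [(Cfsg.Agent.S0968.result p M hM D hDp hDtop e heB hDef).2.2, ← hDcard]
    refine (Nat.card_congr (Equiv.ofBijective ConjClasses.mk ⟨?_, ConjClasses.mk_surjective⟩)).symm
    intro a b hab
    rw [ConjClasses.mk_eq_mk_iff_isConj, isConj_iff] at hab
    obtain ⟨c, hc⟩ := hab
    rw [← hc, hDcomm c a, mul_inv_cancel_right]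
  have hreg : ∀ ξ ∈ e, ∀ y : Cn(Q), ¬ p ∣ orderOf y → (ξ : Cn(Q) → ℂ) y = (θ : Cn(Q) → ℂ) y := by
    intro ξ hξ y hy
    obtain ⟨ζ, h1, -⟩ := ((Cfsg.Agent.S4714.result p M hM D hDp hDtop e heB hDef θ hθe
      (fun y hy => hker y (Subgroup.mem_subgroupOf.1 (by rw [← hD]; exact hy)))).1 ξ).1 hξ
    have h2 := h1 1 y hy (Commute.one_left _)
    rw [OneMemClass.coe_one, one_mul] at h2
    have h3 : (ζ : D → ℂ) 1 = 1 := Cfsg.Agent.S0187.result.1 hDcomm ζ
    rw [h2, h3, one_mul]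
  -- the sums
  intro y y' hy hy'
  have hz' : ∃ k : ℕ, orderOf z = p ^ k := ⟨1, by rw [hz, pow_one]⟩
  have hsec := Cfsg.Agent.Blocks.CentralizerSum.sum_section hM z hz' hCz hBb hA y y' hy hy'
  rw [hsec]
  have : Finite (IrrCharacter Cn(Q)) := finite_irr
  have := Fintype.ofFinite (IrrCharacter Cn(Q))
  have := Fintype.ofFinite e
  rw [← finsum_set_coe_eq_finsum_mem, finsum_eq_sum_of_fintype]
  rw [Finset.sum_congr rfl fun ξ _ => by rw [hreg ξ.1 ξ.2 y hy, hreg ξ.1 ξ.2 y' hy'], Finset.sum_const,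
    Finset.card_univ, nsmul_eq_mul, ← Nat.card_eq_fintype_card, hcard]

/-! ### The three characters -/

theorem dvd_of_isIntegral {c d : ℕ} {ε : ℤ} (hε : ε = 1 ∨ ε = -1) (hd : d ≠ 0)
    (h : IsIntegral ℤ ((c : ℂ) * ε / d)) : d ∣ c := by
  have h1 : ((c : ℂ) * ε / d) = (((c : ℚ) * ε / d : ℚ) : ℂ) := by push_cast; rfl
  rw [h1] at h
  have h2 : IsIntegral ℤ ((c : ℚ) * ε / d : ℚ) :=
    (isIntegral_algebraMap_iff (R := ℤ) (A := ℚ) (B := ℂ) (algebraMap ℚ ℂ).injective).1 h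
  obtain ⟨z, hz⟩ := IsIntegrallyClosed.isIntegral_iff.1 h2
  have hd' : (d : ℚ) ≠ 0 := by exact_mod_cast hd
  rw [eq_div_iff hd'] at hz
  have h3 : z * d = c * ε := by
    have : ((z : ℚ) * d) = c * ε := hz
    exact_mod_cast this
  have h4 : (d : ℤ) ∣ c := by
    rcases hε with h5 | h5 <;> rw [h5] at h3
    · exact ⟨z, by linarith⟩
    · exact ⟨-z, by linarith⟩
  exact_mod_cast h4

/-- Equality in the Cauchy–Schwarz inequality, with given Gram matrix. -/
theorem eq_of_gram {ι : Type*} (s : Finset ι) (V W : ι → ℂ) (a b k : ℂ)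
    (h11 : ∑ i ∈ s, V i * conj (V i) = k * (a * conj a)) (h12 : ∑ i ∈ s, V i * conj (W i) = k * (a * conj b))
    (h21 : ∑ i ∈ s, W i * conj (V i) = k * (b * conj a)) (h22 : ∑ i ∈ s, W i * conj (W i) = k * (b * conj b)) :
    ∀ i ∈ s, b * V i = a * W i := by
  have h1 : ∑ i ∈ s, (b * V i - a * W i) * conj (b * V i - a * W i) = 0 := by
    have h2 : ∀ i ∈ s, (b * V i - a * W i) * conj (b * V i - a * W i) =
        b * conj b * (V i * conj (V i)) - b * conj a * (V i * conj (W i)) - a * conj b * (W i * conj (V i)) +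
          a * conj a * (W i * conj (W i)) := by
      intro i _
      rw [map_sub, map_mul, map_mul]
      ring
    rw [Finset.sum_congr rfl h2, Finset.sum_add_distrib, Finset.sum_sub_distrib, Finset.sum_sub_distrib,
      ← Finset.mul_sum, ← Finset.mul_sum, ← Finset.mul_sum, ← Finset.mul_sum, h11, h12, h21, h22]
    ring
  have h3 : ∑ i ∈ s, Complex.normSq (b * V i - a * W i) = 0 := by
    have h4 : ((∑ i ∈ s, Complex.normSq (b * V i - a * W i) : ℝ) : ℂ) = 0 := by
      rw [← h1, Complex.ofReal_sum]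
      refine Finset.sum_congr rfl fun i _ => ?_
      rw [Complex.mul_conj]
    exact_mod_cast h4
  intro i hi
  have h5 := (Finset.sum_eq_zero_iff_of_nonneg (fun i _ => Complex.normSq_nonneg _)).1 h3 i hi
  rw [Complex.normSq_eq_zero] at h5
  exact sub_eq_zero.1 h5

/-- An irreducible character of `p`-defect zero vanishes at the elements of order divisible by `p`. -/
theorem eq_zero_of_dvd {T : Type*} [Group T] [Finite T] {p : ℕ} [hp : Fact p.Prime] {M : Ideal AlgInt}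
    (hM : IsPModular p M) (θ : IrrCharacter T)
    (hθ : (charDegree (θ : T → ℂ)).factorization p = (Nat.card T).factorization p) {t : T}
    (ht : p ∣ orderOf t) : (θ : T → ℂ) t = 0 := by
  obtain ⟨x, hx⟩ := Cfsg.Agent.Blocks.PPart.exists_isPPart p t
  refine (Cfsg.Agent.S0969.result p M hM (⊥ : Subgroup T) (IsPGroup.of_bot) bot_le θ
    (by rw [Subgroup.index_bot, hθ])).2 t x hx fun h => ?_
  rw [Subgroup.mem_bot] at h
  obtain ⟨y, h1, -, -, h2⟩ := hx
  rw [h, one_mul] at h1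
  rw [h1] at h2
  exact h2 ht

/-- The character `1 × θ` of `C = ⟨u⟩ × T`. -/
theorem exists_ext {u : G} {C T : Subgroup G} (E : (Subgroup.zpowers u) × T ≃* C)
    (hE : ∀ (x : Subgroup.zpowers u) (t : T), ((E (x, t) : C) : G) = x * t) (θ : IrrCharacter T) :
    ∃ θ' : IrrCharacter C, ∀ (c : C) (x : G) (t : T), x ∈ Subgroup.zpowers u → (c : G) = x * t →
      (θ' : C → ℂ) c = (θ : T → ℂ) t := by
  refine ⟨⟨(θ : T → ℂ) ∘ ((MonoidHom.snd (Subgroup.zpowers u) T).comp E.symm.toMonoidHom),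
    isIrr_comp _ ?_ θ.2⟩, ?_⟩
  · intro t
    exact ⟨E (1, t), by simp⟩
  · intro c x t hx hc
    have h1 : c = E (⟨x, hx⟩, t) := Subtype.ext (by rw [hE]; exact hc)
    change (θ : T → ℂ) (E.symm c).2 = _
    rw [h1, MulEquiv.symm_apply_apply]

theorem three_characters [Finite G] {M : Ideal AlgInt} (hM : IsPModular 3 M) {u : G} (hu : orderOf u = 3)
    {C T : Subgroup G} (hC : C = Subgroup.centralizer ({u} : Set G)) (hTC : T ≤ C)
    (hcard : Nat.card C = 3 * Nat.card T) (huT : u ∉ T) {n : G} (hn : n * u * n⁻¹ = u⁻¹)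
    (hnT : ∀ t ∈ T, n * t * n⁻¹ = t) (θ : IrrCharacter T)
    (hθ : (charDegree (θ : T → ℂ)).factorization 3 = (Nat.card T).factorization 3) (θ' : IrrCharacter C)
    (hθ' : ∀ (c : C) (x : G) (t : T), x ∈ Subgroup.zpowers u → (c : G) = x * t →
      (θ' : C → ℂ) c = (θ : T → ℂ) t) :
    ∃ (B : Set (IrrCharacter G)) (χ : Fin 3 → IrrCharacter G) (ε : Fin 3 → ℤ),
      IsPBlock M B ∧ IsDefectGroup 3 M B (Subgroup.zpowers u) ∧
      IsInducedBlock M C (blockOf M (θ' : C → ℂ)) B ∧ Function.Injective χ ∧ (∀ i, χ i ∈ B) ∧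
      (∀ i, ε i = 1 ∨ ε i = -1) ∧
      (∀ i (t : T), ¬ 3 ∣ orderOf t → (χ i : G → ℂ) (u * t) = ε i * (θ : T → ℂ) t) ∧
      (∀ x : G, ¬ 3 ∣ orderOf x → ∑ i, (ε i : ℂ) * (χ i : G → ℂ) x = 0) ∧
      (∀ i (g x : G), IsPPart 3 g x → (∀ h : G, h * x * h⁻¹ ∉ Subgroup.zpowers u) → (χ i : G → ℂ) g = 0) ∧
      (∀ i, (Nat.card G).factorization 3 ≤ (charDegree (χ i : G → ℂ)).factorization 3 + 1) ∧
      (∀ i, 3 * Nat.card T * charDegree (χ i : G → ℂ) ∣ Nat.card G * charDegree (θ : T → ℂ)) := by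
  classical
  have hp3 : Fact (Nat.Prime 3) := ⟨Nat.prime_three⟩
  have hMp : M.IsPrime := isPrime_of_isPModular hM
  obtain ⟨E, hE⟩ := exists_equiv hu hC hTC hcard huT
  obtain ⟨Q, hQ⟩ : ∃ Q : Subgroup G, Q = Subgroup.zpowers u := ⟨_, rfl⟩
  have huQ : u ∈ Subgroup.zpowers u := Subgroup.mem_zpowers u
  have hdec : ∀ c : C, ∃ x ∈ Subgroup.zpowers u, ∃ t : T, (c : G) = x * t := by
    intro c
    refine ⟨(E.symm c).1, (E.symm c).1.2, (E.symm c).2, ?_⟩
    rw [← hE, Prod.mk.eta, MulEquiv.apply_symm_apply]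
  have hθ1 : (θ' : C → ℂ) 1 = (θ : T → ℂ) 1 := hθ' 1 1 1 (one_mem _) (by simp)
  have hker : ∀ y : C, (y : G) ∈ Subgroup.zpowers u → (θ' : C → ℂ) y = (θ' : C → ℂ) 1 := by
    intro y hy
    rw [hθ1]
    exact hθ' y y 1 hy (by simp)
  have hcd : charDegree (θ' : C → ℂ) = charDegree (θ : T → ℂ) := by
    rw [Blocks.Basic.charDegree_def, Blocks.Basic.charDegree_def, hθ1]
  have hdeg : (Nat.card C).factorization 3 ≤ (charDegree (θ' : C → ℂ)).factorization 3 + 1 := by
    rw [hcd, hθ, hcard, Nat.factorization_mul (by norm_num) Nat.card_pos.ne', Finsupp.add_apply,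
      Nat.prime_three.factorization_self, add_comm]
  have hconj : ∀ g ∈ Subgroup.normalizer ((Subgroup.zpowers u : Subgroup G) : Set G), ∀ c c' : C,
      (c' : G) = g * (c : G) * g⁻¹ → (θ' : C → ℂ) c' = (θ' : C → ℂ) c := by
    intro g hg c c' hcc
    have hC1 : ∀ w : G, w * u * w⁻¹ = u → w ∈ C := by
      intro w hw
      rw [hC, Subgroup.mem_centralizer_singleton_iff]
      exact mul_inv_eq_iff_eq_mul.1 hw
    -- conjugation by an element of `C`
    have hcl : ∀ w ∈ C, ∀ c c' : C, (c' : G) = w * (c : G) * w⁻¹ → (θ' : C → ℂ) c' = (θ' : C → ℂ) c := by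
      intro w hw c c' h
      have h1 : c' = ⟨w, hw⟩ * c * ⟨w, hw⟩⁻¹ := Subtype.ext h
      rw [h1]
      exact isIrr_isClassFunction θ'.2 c ⟨w, hw⟩
    have h1 : g * u * g⁻¹ ∈ Subgroup.zpowers u := (Subgroup.mem_normalizer_iff.1 hg u).1 huQ
    have h2 : g * u * g⁻¹ = u ∨ g * u * g⁻¹ = u⁻¹ := by
      obtain ⟨k, hk⟩ := mem_powers_iff_mem_zpowers.2 h1
      have hk : u ^ k = g * u * g⁻¹ := hk
      have hk1 : g * u * g⁻¹ ≠ 1 := by
        intro h
        rw [conj_eq_one_iff] at h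
        rw [h, orderOf_one] at hu
        norm_num at hu
      have h3 : u ^ 3 = 1 := by rw [← hu, pow_orderOf_eq_one]
      rw [← Nat.mod_add_div k 3, pow_add, pow_mul, h3, one_pow, mul_one] at hk
      have h4 : k % 3 < 3 := Nat.mod_lt _ (by norm_num)
      interval_cases h5 : k % 3
      · rw [pow_zero] at hk
        exact absurd hk.symm hk1
      · left
        rw [← hk, pow_one]
      · right
        rw [← hk, eq_inv_iff_mul_eq_one, ← pow_succ]
        exact h3
    rcases h2 with h2 | h2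
    · exact hcl g (hC1 g h2) c c' hcc
    · -- `w = n⁻¹ g`
      have hw : n⁻¹ * g ∈ C := by
        apply hC1
        calc n⁻¹ * g * u * (n⁻¹ * g)⁻¹ = n⁻¹ * (g * u * g⁻¹) * n := by group
          _ = n⁻¹ * u⁻¹ * n := by rw [h2]
          _ = n⁻¹ * (n * u * n⁻¹) * n := by rw [hn]
          _ = u := by group
      have hc1 : (n⁻¹ * g) * (c : G) * (n⁻¹ * g)⁻¹ ∈ C := mul_mem (mul_mem hw c.2) (inv_mem hw)
      rw [← hcl _ hw c ⟨_, hc1⟩ rfl]
      obtain ⟨x, hx, t, hxt⟩ := hdec ⟨_, hc1⟩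
      have hxt : (n⁻¹ * g) * (c : G) * (n⁻¹ * g)⁻¹ = x * t := hxt
      rw [hθ' ⟨_, hc1⟩ x t hx hxt]
      have h5 : n * x * n⁻¹ ∈ Subgroup.zpowers u := by
        obtain ⟨k, rfl⟩ := Subgroup.mem_zpowers_iff.1 hx
        rw [← conj_zpow, hn]
        exact zpow_mem (inv_mem huQ) k
      refine hθ' c' (n * x * n⁻¹) t h5 ?_
      rw [hcc]
      calc g * (c : G) * g⁻¹ = n * ((n⁻¹ * g) * (c : G) * (n⁻¹ * g)⁻¹) * n⁻¹ := by group
        _ = n * (x * t) * n⁻¹ := by rw [hxt]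
        _ = (n * x * n⁻¹) * (n * t * n⁻¹) := by group
        _ = _ := by rw [hnT t t.2]
  obtain ⟨B, hBb, hdef, hind, hgram⟩ := exists_block hM hu hC θ' hker hdeg hconj
  have hfin : Finite (IrrCharacter G) := finite_irr
  have hft := Fintype.ofFinite (IrrCharacter G)
  have hfT : Fintype T := Fintype.ofFinite T
  -- the sum formula for elements of `T`
  have hsum : ∀ y y' : T, ¬ 3 ∣ orderOf y → ¬ 3 ∣ orderOf y' →
      ∑ χ : IrrCharacter G with χ ∈ B, (χ : G → ℂ) (u * y) * conj ((χ : G → ℂ) (u * y')) =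
        3 * ((θ : T → ℂ) y * conj ((θ : T → ℂ) y')) := by
    intro y y' hy hy'
    have o : ∀ w : T, orderOf (⟨w, hTC w.2⟩ : C) = orderOf w := by
      intro w
      rw [Subgroup.orderOf_mk, Subgroup.orderOf_coe]
    have h1 := hgram ⟨y, hTC y.2⟩ ⟨y', hTC y'.2⟩ (by rw [o]; exact hy) (by rw [o]; exact hy')
    rw [hθ' ⟨y, hTC y.2⟩ 1 y (one_mem _) (by simp), hθ' ⟨y', hTC y'.2⟩ 1 y' (one_mem _) (by simp),
      finsum_mem_eq_finite_toFinset_sum _ (Set.toFinite B)] at h1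
    rw [show ((3 : ℕ) : ℂ) = 3 by norm_num] at h1
    rw [← h1]
    refine Finset.sum_congr (by ext; simp) fun χ _ => rfl
  have h31 : ¬ 3 ∣ orderOf (1 : T) := by rw [orderOf_one]; norm_num
  have hθ0 : (θ : T → ℂ) 1 ≠ 0 := isIrr_apply_one_ne_zero θ.2
  have hprop : ∀ χ ∈ B, ∀ t : T, ¬ 3 ∣ orderOf t →
      (θ : T → ℂ) 1 * (χ : G → ℂ) (u * t) = (θ : T → ℂ) t * (χ : G → ℂ) u := by
    intro χ hχ t ht
    have h1 := eq_of_gram (Finset.univ.filter (fun χ : IrrCharacter G => χ ∈ B))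
      (fun χ => (χ : G → ℂ) (u * t)) (fun χ => (χ : G → ℂ) (u * ((1 : T) : G)))
      ((θ : T → ℂ) t) ((θ : T → ℂ) 1) 3 (hsum t t ht ht) (hsum t 1 ht h31) (hsum 1 t h31 ht)
      (hsum 1 1 h31 h31) χ (by simp [hχ])
    simpa using h1
  -- the integers
  have hint : ∀ χ : IrrCharacter G, ∃ a : ℤ, χ ∈ B → (χ : G → ℂ) u = a * (θ : T → ℂ) 1 := by
    intro χ
    obtain ⟨a, ha⟩ := exists_int hu E hE (isIrr_isCharacter θ.2) hn hnT (isIrr_isCharacter χ.2)
    refine ⟨a, fun hχ => ?_⟩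
    have h1 : ∀ t : T, (χ : G → ℂ) (u * t) * conj ((θ : T → ℂ) t) =
        (χ : G → ℂ) u / (θ : T → ℂ) 1 * ((θ : T → ℂ) t * conj ((θ : T → ℂ) t)) := by
      intro t
      by_cases ht : 3 ∣ orderOf t
      · rw [eq_zero_of_dvd hM θ hθ ht]
        simp
      · have h2 := hprop χ hχ t ht
        field_simp
        linear_combination (conj ((θ : T → ℂ) t)) * h2
    rw [Characters.Core.classInner_def, Finset.sum_congr rfl fun t _ => h1 t, ← Finset.mul_sum] at ha
    have h3 := classInner_irr_self θ.2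
    rw [Characters.Core.classInner_def] at h3
    rw [← ha]
    field_simp
    have h4 : (Nat.card T : ℂ) ≠ 0 := by exact_mod_cast Nat.card_pos.ne'
    field_simp at h3
    rw [h3]
  choose a ha using hint
  have hcθ : conj ((θ : T → ℂ) 1) = (θ : T → ℂ) 1 := by
    rw [irr_one_eq_charDegree θ.2, Complex.conj_natCast]
  have hsq : ∑ χ : IrrCharacter G with χ ∈ B, a χ ^ 2 = 3 := by
    have h1 := hsum 1 1 h31 h31
    have h2 : ∑ χ : IrrCharacter G with χ ∈ B,
        (χ : G → ℂ) (u * ((1 : T) : G)) * conj ((χ : G → ℂ) (u * ((1 : T) : G))) =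
        ((∑ χ : IrrCharacter G with χ ∈ B, a χ ^ 2 : ℤ) : ℂ) * ((θ : T → ℂ) 1 * (θ : T → ℂ) 1) := by
      rw [Int.cast_sum, Finset.sum_mul]
      refine Finset.sum_congr rfl fun χ hχ => ?_
      rw [Subgroup.coe_one, mul_one, ha χ (Finset.mem_filter.1 hχ).2, map_mul, hcθ, map_intCast, Int.cast_pow]
      ring
    rw [h2, hcθ] at h1
    have h3 := mul_right_cancel₀ (mul_ne_zero hθ0 hθ0) h1
    exact_mod_cast h3
  obtain ⟨S, hS⟩ : ∃ S : Finset (IrrCharacter G), S = Finset.univ.filter (fun χ => χ ∈ B ∧ a χ ≠ 0) := ⟨_, rfl⟩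
  have hSmem : ∀ χ, χ ∈ S ↔ χ ∈ B ∧ a χ ≠ 0 := by
    intro χ
    rw [hS, Finset.mem_filter]
    simp
  have hSsub : S ⊆ Finset.univ.filter (fun χ => χ ∈ B) := by
    intro χ hχ
    rw [Finset.mem_filter]
    exact ⟨Finset.mem_univ _, ((hSmem χ).1 hχ).1⟩
  have hSsum : ∀ F : IrrCharacter G → ℂ, ∑ χ ∈ S, (a χ : ℂ) * F χ =
      ∑ χ : IrrCharacter G with χ ∈ B, (a χ : ℂ) * F χ := by
    intro F
    refine Finset.sum_subset hSsub fun χ hχ hn => ?_
    rw [Finset.mem_filter] at hχ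
    have h1 : a χ = 0 := by
      by_contra h
      exact hn ((hSmem χ).2 ⟨hχ.2, h⟩)
    rw [h1]
    simp
  have hSsq : ∑ χ ∈ S, a χ ^ 2 = 3 := by
    rw [← hsq]
    refine Finset.sum_subset hSsub fun χ hχ hn => ?_
    rw [Finset.mem_filter] at hχ
    have h1 : a χ = 0 := by
      by_contra h
      exact hn ((hSmem χ).2 ⟨hχ.2, h⟩)
    rw [h1]
    norm_num
  have hε : ∀ χ ∈ S, a χ = 1 ∨ a χ = -1 := by
    intro χ hχ
    have h1 : a χ ^ 2 ≤ 3 := by
      rw [← hSsq]
      exact Finset.single_le_sum (f := fun χ => a χ ^ 2) (fun i _ => sq_nonneg _) hχ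
    have h2 := ((hSmem χ).1 hχ).2
    have h3 : a χ < 2 := by nlinarith
    have h4 : -2 < a χ := by nlinarith
    omega
  have hScard : S.card = 3 := by
    have h1 : ∑ χ ∈ S, a χ ^ 2 = ∑ χ ∈ S, (1 : ℤ) := by
      refine Finset.sum_congr rfl fun χ hχ => ?_
      rcases hε χ hχ with h | h <;> rw [h] <;> norm_num
    rw [h1, Finset.sum_const, nsmul_eq_mul, mul_one] at hSsq
    exact_mod_cast hSsq
  obtain ⟨e⟩ : Nonempty (S ≃ Fin 3) := ⟨S.equivFinOfCardEq hScard⟩
  have hmem : ∀ i, ((e.symm i : S) : IrrCharacter G) ∈ B := fun i => ((hSmem _).1 (e.symm i).2).1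
  refine ⟨B, fun i => (e.symm i).1, fun i => a (e.symm i).1, hBb, hdef, hind,
    fun i j h => e.symm.injective (Subtype.ext h), hmem, fun i => hε _ (e.symm i).2, ?_, ?_, ?_, ?_, ?_⟩
  · intro i t ht
    have h1 := hprop _ (hmem i) t ht
    rw [ha _ (hmem i)] at h1
    apply mul_left_cancel₀ hθ0
    rw [h1]
    ring
  · intro x hx
    have h1 : ∑ i, (a (e.symm i).1 : ℂ) * ((e.symm i).1 : G → ℂ) x = ∑ χ ∈ S, (a χ : ℂ) * (χ : G → ℂ) x := by
      rw [← Finset.sum_coe_sort S (fun χ : IrrCharacter G => (a χ : ℂ) * (χ : G → ℂ) x)]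
      exact Fintype.sum_equiv e.symm _ _ fun i => rfl
    change ∑ i, (a (e.symm i).1 : ℂ) * ((e.symm i).1 : G → ℂ) x = 0
    rw [h1, hSsum (fun χ => (χ : G → ℂ) x)]
    have h2 := Cfsg.Agent.S0907.result 3 M hM B hBb x u hx (by rw [hu])
    rw [finsum_mem_eq_finite_toFinset_sum _ (Set.toFinite B)] at h2
    have h3 : ∑ χ ∈ (Set.toFinite B).toFinset, (χ : G → ℂ) x * conj ((χ : G → ℂ) u) =
        (∑ χ : IrrCharacter G with χ ∈ B, (a χ : ℂ) * (χ : G → ℂ) x) * (θ : T → ℂ) 1 := by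
      rw [Finset.sum_mul]
      refine Finset.sum_congr (by ext; simp) fun χ hχ => ?_
      rw [ha χ (by simpa using hχ), map_mul, hcθ, map_intCast]
      ring
    rw [h3] at h2
    exact (mul_eq_zero.1 h2).resolve_right hθ0
  · intro i g x hx hno
    refine Cfsg.Agent.S0924.result 3 M hM _ g x hx fun D hD hxD => ?_
    have h1 : blockOf M (((e.symm i).1 : IrrCharacter G) : G → ℂ) = B :=
      (isPBlock_eq_blockOf hBb (hmem i)).symm
    rw [h1] at hD
    obtain ⟨t, ht⟩ := Cfsg.Agent.H644.exists_conj_of_isDefectGroup hM hBb hdef hD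
    rw [← ht, Subgroup.mem_map] at hxD
    obtain ⟨y, hy, hyx⟩ := hxD
    have hyx : t * y * t⁻¹ = x := hyx
    refine hno t⁻¹ ?_
    rw [← hyx]
    have h2 : t⁻¹ * (t * y * t⁻¹) * t⁻¹⁻¹ = y := by group
    rw [h2]
    exact hy
  · intro i
    have h1 := Cfsg.Agent.H592.Defect.le_degree_add 3 hM hBb hdef (hmem i)
    rwa [Nat.card_zpowers, hu, Nat.prime_three.factorization_self] at h1
  · intro i
    have h1 := Cfsg.Agent.Blocks.Central.isIntegral_centralChar ((e.symm i).1 : IrrCharacter G).2 u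
    have h2 : centralChar (((e.symm i).1 : IrrCharacter G) : G → ℂ) u =
        ((C.index * charDegree (θ : T → ℂ) : ℕ) : ℂ) * (a (e.symm i).1 : ℤ) /
          ((charDegree (((e.symm i).1 : IrrCharacter G) : G → ℂ) : ℕ) : ℂ) := by
      unfold centralChar
      rw [ha _ (hmem i), irr_one_eq_charDegree θ.2, irr_one_eq_charDegree (e.symm i).1.2, ← hC]
      push_cast
      ring
    rw [h2] at h1
    have h3 := dvd_of_isIntegral (hε _ (e.symm i).2) (charDegree_pos (e.symm i).1.2).ne' h1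
    rw [← C.card_mul_index, hcard, mul_assoc (3 * Nat.card T)]
    exact mul_dvd_mul_left _ h3

/-! ### Sorted form -/

/-- A `3`-regular element of `C` lies in `T`. -/
theorem mem_of_regular [Finite G] {u : G} (hu : orderOf u = 3) {C T : Subgroup G}
    (hC : C = Subgroup.centralizer ({u} : Set G)) (hTC : T ≤ C)
    (hcard : Nat.card C = 3 * Nat.card T) (huT : u ∉ T) {c : G} (hc : c ∈ C) (h3 : ¬ 3 ∣ orderOf c) : c ∈ T := by
  have hp3 : Fact (Nat.Prime 3) := ⟨Nat.prime_three⟩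
  obtain ⟨E, hE⟩ := exists_equiv hu hC hTC hcard huT
  obtain ⟨⟨x, t⟩, hxt⟩ := E.surjective ⟨c, hc⟩
  have h1 : E ((x, t) ^ orderOf c) = E 1 := by
    rw [map_pow, hxt, map_one]
    exact Subtype.ext (by simp)
  have h2 : x ^ orderOf c = 1 := by
    exact congrArg Prod.fst (E.injective h1)
  have h4 : x ^ 3 = 1 := by
    obtain ⟨k, hk⟩ := Subgroup.mem_zpowers_iff.1 x.2
    apply Subtype.ext
    rw [SubmonoidClass.coe_pow, ← hk, ← zpow_natCast, ← zpow_mul, mul_comm, zpow_mul]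
    have h5 : u ^ ((3 : ℕ) : ℤ) = 1 := by
      rw [zpow_natCast, ← hu, pow_orderOf_eq_one]
    rw [h5, one_zpow, Subgroup.coe_one]
  have h5 : x = 1 := by
    have h6 : orderOf x ∣ orderOf c := orderOf_dvd_of_pow_eq_one h2
    have h7 : orderOf x ∣ 3 := orderOf_dvd_of_pow_eq_one h4
    rcases (Nat.dvd_prime Nat.prime_three).1 h7 with h8 | h8
    · exact orderOf_eq_one_iff.1 h8
    · rw [h8] at h6
      exact absurd h6 h3
  have h6 := hE x t
  rw [hxt, h5, Subgroup.coe_one, one_mul] at h6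
  have h7 : c = t := h6
  rw [h7]
  exact t.2

theorem exists_perm {ε : Fin 3 → ℤ} (hε : ∀ i, ε i = 1 ∨ ε i = -1) (hne : ¬ (ε 0 = ε 1 ∧ ε 1 = ε 2)) :
    ∃ (σ : Equiv.Perm (Fin 3)) (s : ℤ), (s = 1 ∨ s = -1) ∧ ε (σ 0) = s ∧ ε (σ 1) = s ∧ ε (σ 2) = -s := by
  have e1 : (Equiv.swap (1 : Fin 3) 2) 0 = 0 := by decide
  have e2 : (Equiv.swap (1 : Fin 3) 2) 1 = 2 := by decide
  have e3 : (Equiv.swap (1 : Fin 3) 2) 2 = 1 := by decide
  have f1 : (Equiv.swap (0 : Fin 3) 2) 0 = 2 := by decide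
  have f2 : (Equiv.swap (0 : Fin 3) 2) 1 = 1 := by decide
  have f3 : (Equiv.swap (0 : Fin 3) 2) 2 = 0 := by decide
  rcases hε 0 with h0 | h0 <;> rcases hε 1 with h1 | h1 <;> rcases hε 2 with h2 | h2
  · exact absurd ⟨h0.trans h1.symm, h1.trans h2.symm⟩ hne
  · exact ⟨Equiv.refl _, 1, Or.inl rfl, h0, h1, h2⟩
  · exact ⟨Equiv.swap 1 2, 1, Or.inl rfl, by rw [e1, h0], by rw [e2, h2], by rw [e3, h1]⟩
  · exact ⟨Equiv.swap 0 2, -1, Or.inr rfl, by rw [f1, h2], by rw [f2, h1], by rw [f3, h0]; norm_num⟩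
  · exact ⟨Equiv.swap 0 2, 1, Or.inl rfl, by rw [f1, h2], by rw [f2, h1], by rw [f3, h0]⟩
  · exact ⟨Equiv.swap 1 2, -1, Or.inr rfl, by rw [e1, h0], by rw [e2, h2], by rw [e3, h1]; norm_num⟩
  · exact ⟨Equiv.refl _, -1, Or.inr rfl, h0, h1, by rw [Equiv.refl_apply, h2]; norm_num⟩
  · exact absurd ⟨h0.trans h1.symm, h1.trans h2.symm⟩ hne

/-- The three characters, sorted: `χ 0` and `χ 1` have the sign `s` at `u`, `χ 2` has the sign `- s`, and
`χ 0 + χ 1 = χ 2` at the `3`-regular elements. -/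
theorem three_sorted [Finite G] {M : Ideal AlgInt} (hM : IsPModular 3 M) {u : G} (hu : orderOf u = 3)
    {C T : Subgroup G} (hC : C = Subgroup.centralizer ({u} : Set G)) (hTC : T ≤ C)
    (hcard : Nat.card C = 3 * Nat.card T) (huT : u ∉ T) {n : G} (hn : n * u * n⁻¹ = u⁻¹)
    (hnT : ∀ t ∈ T, n * t * n⁻¹ = t) (θ : IrrCharacter T)
    (hθ : (charDegree (θ : T → ℂ)).factorization 3 = (Nat.card T).factorization 3) :
    ∃ (B : Set (IrrCharacter G)) (θ' : IrrCharacter C) (χ : Fin 3 → IrrCharacter G) (s : ℤ),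
      (∀ (c : C) (x : G) (t : T), x ∈ Subgroup.zpowers u → (c : G) = x * t →
        (θ' : C → ℂ) c = (θ : T → ℂ) t) ∧
      IsPBlock M B ∧ IsDefectGroup 3 M B (Subgroup.zpowers u) ∧
      IsInducedBlock M C (blockOf M (θ' : C → ℂ)) B ∧ Function.Injective χ ∧ (∀ i, χ i ∈ B) ∧
      (s = 1 ∨ s = -1) ∧
      (∀ t : T, ¬ 3 ∣ orderOf t → (χ 0 : G → ℂ) (u * t) = s * (θ : T → ℂ) t ∧
        (χ 1 : G → ℂ) (u * t) = s * (θ : T → ℂ) t ∧ (χ 2 : G → ℂ) (u * t) = -s * (θ : T → ℂ) t) ∧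
      (∀ x : G, ¬ 3 ∣ orderOf x → (χ 0 : G → ℂ) x + (χ 1 : G → ℂ) x = (χ 2 : G → ℂ) x) ∧
      charDegree (χ 0 : G → ℂ) + charDegree (χ 1 : G → ℂ) = charDegree (χ 2 : G → ℂ) ∧
      (∀ g : G, 3 ∣ orderOf g → (∀ i, (χ i : G → ℂ) g = 0) ∨ ∃ t : T, ¬ 3 ∣ orderOf t ∧
        ∃ h : G, h * (u * t) * h⁻¹ = g) ∧
      (∀ i, (charDegree (χ i : G → ℂ)).factorization 3 + 1 = (Nat.card G).factorization 3) ∧
      (∀ i, 3 * Nat.card T * charDegree (χ i : G → ℂ) ∣ Nat.card G * charDegree (θ : T → ℂ)) := by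
  have hp3 : Fact (Nat.Prime 3) := ⟨Nat.prime_three⟩
  obtain ⟨E, hE⟩ := exists_equiv hu hC hTC hcard huT
  obtain ⟨θ', hθ'⟩ := exists_ext E hE θ
  obtain ⟨B, χ, ε, hB, hdef, hind, hinj, hmem, hε, hval, hsum, hvan, hdeg, hdvd⟩ :=
    three_characters hM hu hC hTC hcard huT hn hnT θ hθ θ' hθ'
  have h31 : ¬ 3 ∣ orderOf (1 : G) := by rw [orderOf_one]; norm_num
  have hsum1 := hsum 1 h31
  rw [Fin.sum_univ_three, irr_one_eq_charDegree (χ 0).2, irr_one_eq_charDegree (χ 1).2,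
    irr_one_eq_charDegree (χ 2).2] at hsum1
  have hsum2 : ε 0 * (charDegree (χ 0 : G → ℂ) : ℤ) + ε 1 * (charDegree (χ 1 : G → ℂ) : ℤ) +
      ε 2 * (charDegree (χ 2 : G → ℂ) : ℤ) = 0 := by exact_mod_cast hsum1
  have hpos : ∀ i, (0 : ℤ) < charDegree (χ i : G → ℂ) := fun i => by
    exact_mod_cast charDegree_pos (χ i).2
  have hne : ¬ (ε 0 = ε 1 ∧ ε 1 = ε 2) := by
    rintro ⟨h0, h1⟩
    rw [h0, h1] at hsum2
    have k0 := hpos 0
    have k1 := hpos 1
    have k2 := hpos 2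
    rcases hε 2 with h | h <;> rw [h] at hsum2 <;> omega
  obtain ⟨σ, s, hs, h0, h1, h2⟩ := exists_perm hε hne
  have hs2 : (s : ℂ) * s = 1 := by
    rcases hs with h | h <;> rw [h] <;> norm_num
  have hadd : ∀ x : G, ¬ 3 ∣ orderOf x →
      (χ (σ 0) : G → ℂ) x + (χ (σ 1) : G → ℂ) x = (χ (σ 2) : G → ℂ) x := by
    intro x hx
    have h3 := hsum x hx
    rw [← Equiv.sum_comp σ, Fin.sum_univ_three, h0, h1, h2] at h3
    push_cast at h3
    have h4 : (s : ℂ) * ((s : ℂ) * (χ (σ 0) : G → ℂ) x + (s : ℂ) * (χ (σ 1) : G → ℂ) x +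
        -(s : ℂ) * (χ (σ 2) : G → ℂ) x) = 0 := by rw [h3, mul_zero]
    linear_combination h4 - ((χ (σ 0) : G → ℂ) x + (χ (σ 1) : G → ℂ) x - (χ (σ 2) : G → ℂ) x) * hs2
  refine ⟨B, θ', fun i => χ (σ i), s, hθ', hB, hdef, hind, fun i j h => σ.injective (hinj h),
    fun i => hmem _, hs, ?_, hadd, ?_, ?_, ?_, fun i => hdvd _⟩
  · intro t ht
    refine ⟨?_, ?_, ?_⟩
    · rw [hval _ t ht, h0]
    · rw [hval _ t ht, h1]
    · rw [hval _ t ht, h2]
      push_cast
      rfl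
  · have h3 := hadd 1 h31
    rw [irr_one_eq_charDegree (χ (σ 0)).2, irr_one_eq_charDegree (χ (σ 1)).2,
      irr_one_eq_charDegree (χ (σ 2)).2] at h3
    exact_mod_cast h3
  · intro g hg
    obtain ⟨x, hx⟩ := Cfsg.Agent.Blocks.PPart.exists_isPPart 3 g
    by_cases hno : ∀ h : G, h * x * h⁻¹ ∉ Subgroup.zpowers u
    · exact Or.inl fun i => hvan _ g x hx hno
    · right
      push Not at hno
      obtain ⟨h, hh⟩ := hno
      obtain ⟨y, hxy, hcom, hxk, hy⟩ := hx
      have hx1 : x ≠ 1 := by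
        rintro rfl
        rw [one_mul] at hxy
        rw [hxy] at hy
        exact hy hg
      have h3 : u ^ 3 = 1 := by rw [← hu, pow_orderOf_eq_one]
      -- after conjugation the `3`-part is `u`
      have hk : ∃ h' : G, h' * x * h'⁻¹ = u := by
        obtain ⟨k, hk⟩ := mem_powers_iff_mem_zpowers.2 hh
        have hk : u ^ k = h * x * h⁻¹ := hk
        rw [← Nat.mod_add_div k 3, pow_add, pow_mul, h3, one_pow, mul_one] at hk
        have h4 : k % 3 < 3 := Nat.mod_lt _ (by norm_num)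
        interval_cases h5 : k % 3
        · rw [pow_zero] at hk
          exact absurd (conj_eq_one_iff.1 hk.symm) hx1
        · exact ⟨h, by rw [← hk, pow_one]⟩
        · refine ⟨n * h, ?_⟩
          have h6 : u ^ 2 = u⁻¹ := by
            rw [eq_inv_iff_mul_eq_one, ← pow_succ]
            exact h3
          calc n * h * x * (n * h)⁻¹ = n * (h * x * h⁻¹) * n⁻¹ := by group
            _ = n * u⁻¹ * n⁻¹ := by rw [← hk, h6]
            _ = (n * u * n⁻¹)⁻¹ := by group
            _ = u := by rw [hn, inv_inv]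
      obtain ⟨h', hh'⟩ := hk
      have hc : h' * y * h'⁻¹ ∈ C := by
        rw [hC, Subgroup.mem_centralizer_singleton_iff, ← hh']
        calc h' * y * h'⁻¹ * (h' * x * h'⁻¹) = h' * (y * x) * h'⁻¹ := by group
          _ = h' * (x * y) * h'⁻¹ := by rw [hcom.eq]
          _ = h' * x * h'⁻¹ * (h' * y * h'⁻¹) := by group
      have ho : ¬ 3 ∣ orderOf (h' * y * h'⁻¹) := by
        have h7 : orderOf (h' * y * h'⁻¹) = orderOf y := by
          have h8 := MulEquiv.orderOf_eq (MulAut.conj h') y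
          rwa [MulAut.conj_apply] at h8
        rwa [h7]
      have hT := mem_of_regular hu hC hTC hcard huT hc ho
      refine ⟨⟨_, hT⟩, ?_, h'⁻¹, ?_⟩
      · rw [Subgroup.orderOf_mk]
        exact ho
      · change h'⁻¹ * (u * (h' * y * h'⁻¹)) * h'⁻¹⁻¹ = g
        rw [← hxy]
        nth_rewrite 1 [← hh']
        group
  · intro i
    have h3 := hdeg (σ i)
    have h4 := hdvd (σ i)
    have h5 : 3 * Nat.card T * charDegree (χ (σ i) : G → ℂ) ≠ 0 :=
      mul_ne_zero (mul_ne_zero (by norm_num) Nat.card_pos.ne') (charDegree_pos (χ (σ i)).2).ne'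
    have h6 : Nat.card G * charDegree (θ : T → ℂ) ≠ 0 :=
      mul_ne_zero Nat.card_pos.ne' (charDegree_pos θ.2).ne'
    have h7 := (Nat.factorization_le_iff_dvd h5 h6).2 h4 3
    rw [Nat.factorization_mul (mul_ne_zero (by norm_num) Nat.card_pos.ne') (charDegree_pos (χ (σ i)).2).ne',
      Nat.factorization_mul (by norm_num) Nat.card_pos.ne', Nat.factorization_mul Nat.card_pos.ne'
      (charDegree_pos θ.2).ne', Finsupp.add_apply, Finsupp.add_apply, Finsupp.add_apply, hθ,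
      Nat.prime_three.factorization_self] at h7
    change (charDegree (χ (σ i) : G → ℂ)).factorization 3 + 1 = _
    omega

end Cfsg.Agent.H66.LD.Three
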