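import Cfsg.Agent.H66.LD.F23Loc
import Cfsg.Agent.H174.Ore.Fi23Rk

/-!
# `Fi₂₃`: the class function `ψ s = χ (y5 s)` on `S₇` (helper66)

* `exists_psi` : integer values, constant on the classes, `ψ s ≡ ψ (s ^ 5)`, `ψ s ≡ χ s` modulo 5;
* `sum_cls2` : the sum over 2A ∩ `S₇`;
* `part_e7` : the multiplicity in terms of `ψ`.
-/

set_option autoImplicit false
set_option linter.unusedSectionVars false
set_option maxRecDepth 100000

namespace Cfsg.Agent.H66.LD.F23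

open Cfsg Subgroup Cfsg.Agent.Lib.PermNet Cfsg.Agent.Fischer.Fi23Hom Cfsg.Agent.LThreeFi23
open Cfsg.Agent.H838.Fi23 (SL el_mem elw_mem DD L7 c7 S7_comm_y5 cent5 y5_pow_S7 q5 q5_conj S7_comm_q5)
open Cfsg.Agent.Characters.Core Cfsg.Agent.SmallSimple.ThetaSetup
open Cfsg.Agent.H343.LD
open Cfsg.Spor (Fi23)
open Cfsg.Agent.Fischer.Fi23Z (z0)
open scoped ComplexConjugate

theorem cycleType_pow_coprime {α : Type} [Fintype α] [DecidableEq α] (σ : Equiv.Perm α) {k : ℕ}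
    (h : k.Coprime (orderOf σ)) : (σ ^ k).cycleType = σ.cycleType := by
  induction σ using Equiv.Perm.cycle_induction_on with
  | base_one => simp
  | base_cycles σ hσ =>
    have h1 : (σ ^ k).IsCycle := (hσ.pow_iff).2 h
    rw [h1.cycleType, hσ.cycleType, Equiv.Perm.support_pow_coprime h]
  | induction_disjoint σ τ hd hσ ih1 ih2 =>
    rw [hd.orderOf] at h
    have h1 : k.Coprime (orderOf σ) := Nat.Coprime.coprime_dvd_right (Nat.dvd_lcm_left _ _) h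
    have h2 : k.Coprime (orderOf τ) := Nat.Coprime.coprime_dvd_right (Nat.dvd_lcm_right _ _) h
    rw [hd.commute.mul_pow, (hd.pow_disjoint_pow k k).cycleType_mul, ih1 h1, ih2 h2, hd.cycleType_mul]

theorem isConj_pow_coprime {α : Type} [Fintype α] [DecidableEq α] (σ : Equiv.Perm α) {k : ℕ}
    (h : k.Coprime (orderOf σ)) : IsConj σ (σ ^ k) :=
  Equiv.Perm.isConj_iff_cycleType_eq.2 (cycleType_pow_coprime σ h).symm

/-- conjugation in `F₂₀ × S₇` -/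
theorem isConj_y5 {s t : S7} (h : IsConj s t) {m : ℕ} (hm : m.Coprime 5) :
    IsConj (elw y5 * f7 s) (elw y5 ^ m * f7 t) := by
  obtain ⟨n, hn, hc⟩ := loc.real m hm
  obtain ⟨u, hu⟩ := isConj_iff.1 h
  refine isConj_iff.2 ⟨n * f7 u, ?_⟩
  have h1 : elw y5 * f7 u = f7 u * elw y5 := S7_comm_y5 (f7_mem u)
  have h2 : n * f7 t = f7 t * n := hc _ (f7_mem t)
  have h3 : f7 u * f7 s * (f7 u)⁻¹ = f7 t := by rw [← map_mul, ← map_inv, ← map_mul, hu]
  calc n * f7 u * (elw y5 * f7 s) * (n * f7 u)⁻¹ = n * (f7 u * elw y5) * f7 s * (f7 u)⁻¹ * n⁻¹ := by group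
    _ = n * (elw y5 * f7 u) * f7 s * (f7 u)⁻¹ * n⁻¹ := by rw [h1]
    _ = n * elw y5 * (f7 u * f7 s * (f7 u)⁻¹) * n⁻¹ := by group
    _ = n * elw y5 * f7 t * n⁻¹ := by rw [h3]
    _ = n * elw y5 * n⁻¹ * (n * f7 t) * n⁻¹ := by group
    _ = n * elw y5 * n⁻¹ * (f7 t * n) * n⁻¹ := by rw [h2]
    _ = (n * elw y5 * n⁻¹) * f7 t := by group
    _ = elw y5 ^ m * f7 t := by rw [hn]

theorem comm7 (s : S7) : Commute (elw y5) (f7 s) := S7_comm_y5 (f7_mem s)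

theorem order_y5 (s : S7) : 5 ∣ orderOf (elw y5 * f7 s) ∧ orderOf s ∣ orderOf (elw y5 * f7 s) := by
  set n := orderOf (elw y5 * f7 s) with hn
  have h1 : elw y5 ^ n * f7 s ^ n = 1 := by rw [← (comm7 s).mul_pow, hn]; exact pow_orderOf_eq_one _
  have h2 : elw y5 ^ n ∈ SL L7 := by
    rw [eq_inv_of_mul_eq_one_left h1, ← map_pow, ← map_inv]
    exact f7_mem _
  have h3 := loc.nmem n h2
  refine ⟨?_, ?_⟩
  · rw [← ord5]
    exact orderOf_dvd_of_pow_eq_one h3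
  · rw [h3, one_mul, ← map_pow] at h1
    apply orderOf_dvd_of_pow_eq_one
    apply f7_inj
    rw [h1, map_one]

instance finite23 : Finite Fi23 := H713.Spor.Fi23.finite_fi23

/-- the values at `5 × S₇` are integers -/
theorem int_y5 (χ : IrrCharacter Fi23) (s : S7) : ∃ k : ℤ, (χ : Fi23 → ℂ) (elw y5 * f7 s) = k := by
  refine J3Type.CharTools.int_of_conj (isIrr_isCharacter χ.2) _ fun m hm => ?_
  obtain ⟨h1, h2⟩ := order_y5 s
  have h5 : m.Coprime 5 := Nat.Coprime.coprime_dvd_right h1 hm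
  have hs : m.Coprime (orderOf s) := Nat.Coprime.coprime_dvd_right h2 hm
  rw [(comm7 s).mul_pow, ← map_pow]
  exact isConj_y5 (isConj_pow_coprime s hs) h5

/-- the values at `S₇` are integers -/
theorem int_f7 (χ : IrrCharacter Fi23) (s : S7) : ∃ k : ℤ, (χ : Fi23 → ℂ) (f7 s) = k := by
  refine J3Type.CharTools.int_of_conj (isIrr_isCharacter χ.2) _ fun m hm => ?_
  have hs : m.Coprime (orderOf s) := by
    rw [orderOf_injective f7 f7_inj] at hm
    exact hm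
  rw [← map_pow]
  exact f7.map_isConj (isConj_pow_coprime s hs)

/-- **the class function `ψ`** -/
theorem exists_psi (χ : IrrCharacter Fi23) : ∃ ψ β : S7 → ℤ, (∀ s, (χ : Fi23 → ℂ) (elw y5 * f7 s) = ψ s) ∧
    (∀ s, (χ : Fi23 → ℂ) (f7 s) = β s) ∧ (∀ s t, IsConj s t → ψ s = ψ t) ∧
    (∀ s, (5 : ℤ) ∣ ψ s - β s) ∧ (∀ s, (5 : ℤ) ∣ ψ s - ψ (s ^ 5)) := by
  choose ψ hψ using int_y5 χ
  choose β hβ using int_f7 χ
  have hch := isIrr_isCharacter χ.2
  have h5 : (elw y5 : Fi23) ^ 5 = 1 := loc.pow_p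
  have h1 : ∀ s, (5 : ℤ) ∣ ψ s - β (s ^ 5) := by
    intro s
    refine J3Type.CharTools.int_congr hch (elw y5 * f7 s) (p := 5) (by norm_num) (hψ s) ?_
    rw [(comm7 s).mul_pow, h5, one_mul, ← map_pow, hβ]
  have h2 : ∀ s, (5 : ℤ) ∣ β s - β (s ^ 5) := by
    intro s
    refine J3Type.CharTools.int_congr hch (f7 s) (p := 5) (by norm_num) (hβ s) ?_
    rw [← map_pow, hβ]
  refine ⟨ψ, β, hψ, hβ, ?_, ?_, ?_⟩
  · intro s t hst
    have h3 := J3Type.CharTools.class_eq hch (isConj_y5 hst (m := 1) (by norm_num))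
    rw [pow_one, hψ, hψ] at h3
    exact_mod_cast h3
  · intro s
    have h3 := dvd_sub (h1 s) (h2 s)
    have e : ψ s - β (s ^ 5) - (β s - β (s ^ 5)) = ψ s - β s := by ring
    rwa [e] at h3
  · intro s
    have h3 := dvd_sub (h1 s) (h1 (s ^ 5))
    have h4 := dvd_sub h3 (h2 (s ^ 5))
    have e : ψ s - β (s ^ 5) - (ψ (s ^ 5) - β ((s ^ 5) ^ 5)) - (β (s ^ 5) - β ((s ^ 5) ^ 5)) =
        ψ s - ψ (s ^ 5) - 2 * (β (s ^ 5) - β ((s ^ 5) ^ 5)) + 0 := by ring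
    have h5' := dvd_add h4 (Dvd.dvd.mul_left (h2 (s ^ 5)) 2)
    rw [e] at h5'
    have e' : ψ s - ψ (s ^ 5) - 2 * (β (s ^ 5) - β ((s ^ 5) ^ 5)) + 0 + 2 * (β (s ^ 5) - β ((s ^ 5) ^ 5)) =
        ψ s - ψ (s ^ 5) := by ring
    rwa [e'] at h5'

open scoped Classical in
/-- the sum over 2A ∩ `S₇` -/
theorem sum_cls2 [Fintype (SL L7)] (F : SL L7 → ℂ) :
    ∑ u ∈ cls (SL L7) z0, F u = ∑ t : S7 with t.IsSwap, F (e7 t) := by
  refine Finset.sum_bij' (i := fun u _ => e7.symm u) (j := fun t _ => e7 t) ?_ ?_ ?_ ?_ ?_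
  · intro u hu
    rw [mem_cls] at hu
    rw [Finset.mem_filter]
    refine ⟨Finset.mem_univ _, isConj_f7_iff.1 ?_⟩
    rw [← e7_coe, MulEquiv.apply_symm_apply]
    exact hu
  · intro t ht
    rw [Finset.mem_filter] at ht
    rw [mem_cls, e7_coe]
    exact isConj_f7_iff.2 ht.2
  · intro u _
    exact e7.apply_symm_apply u
  · intro t _
    exact e7.symm_apply_apply t
  · intro u _
    rw [MulEquiv.apply_symm_apply]

/-- the multiplicity in terms of `ψ` -/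
theorem part_e7 {χ : IrrCharacter Fi23} {ψ : S7 → ℤ} (hψ : ∀ s, (χ : Fi23 → ℂ) (elw y5 * f7 s) = ψ s)
    {θ : SL L7 → ℂ} {t : S7 → ℤ} (ht : ∀ s, θ (e7 s) = t s) {w : ℤ} (hw : part θ (χ : Fi23 → ℂ) (elw y5) = w) :
    5040 * w = ∑ s : S7, t s * ψ s := by
  have := Fintype.ofFinite (SL L7)
  rw [part_eq, card_SL7] at hw
  have h1 : ∑ y : SL L7, (χ : Fi23 → ℂ) (elw y5 * y) * conj (θ y) = ∑ s : S7, ((t s * ψ s : ℤ) : ℂ) := by
    rw [← e7.toEquiv.sum_comp]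
    refine Finset.sum_congr rfl fun s _ => ?_
    show (χ : Fi23 → ℂ) (elw y5 * ((e7 s : SL L7) : Fi23)) * conj (θ (e7 s)) = _
    rw [e7_coe, hψ, ht, ← Complex.ofReal_intCast (t s), Complex.conj_ofReal]
    push_cast
    ring
  rw [h1] at hw
  have h2 : (5040 : ℂ) * w = ∑ s : S7, ((t s * ψ s : ℤ) : ℂ) := by
    rw [← hw]
    push_cast
    field_simp
  exact_mod_cast h2

theorem index_z0 : (centralizer ({z0} : Set Fi23)).index = 31671 := by
  have h1 := Subgroup.card_mul_index (centralizer ({z0} : Set Fi23))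
  rw [H713.Spor.Fi23.card_z0, card_G] at h1
  omega

variable {χ : IrrCharacter Fi23} {b c : ℤ}

theorem om_z0 (h : H174.Ore.Fi23Rk.Vals χ 5987520 (-221760) b c) : om (χ : Fi23 → ℂ) z0 = -1173 := by
  unfold om
  rw [index_z0, h.one, h.val_d z0 (IsConj.refl _)]
  norm_num

open scoped Classical in
/-- **the eigenvector equation modulo 5** -/
theorem eig_psi (h : H174.Ore.Fi23Rk.Vals χ 5987520 (-221760) b c) {ψ : S7 → ℤ}
    (hψ : ∀ s, (χ : Fi23 → ℂ) (elw y5 * f7 s) = ψ s) (s : S7) :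
    (5 : ℤ) ∣ (∑ t : S7 with t.IsSwap, ψ (s * t)) - 2 * ψ s := by
  have := Fintype.ofFinite (SL L7)
  obtain ⟨z, hz, h1⟩ := loc.eig (by norm_num) χ (e7 s) (g := z0) (by
    rw [H713.Spor.Fi23.orderOf_z0]
    norm_num)
  rw [om_z0 h, e7_coe, hψ, sum_cls2] at h1
  have h2 : ∀ t : S7, (χ : Fi23 → ℂ) (elw y5 * ((e7 s * e7 t : SL L7) : Fi23)) = ψ (s * t) := by
    intro t
    rw [← map_mul, e7_coe, hψ]
  rw [Finset.sum_congr rfl fun t _ => h2 t] at h1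
  have h3 : ((-1173 * ψ s - ∑ t : S7 with t.IsSwap, ψ (s * t) : ℤ) : ℂ) = (5 : ℕ) * z := by
    push_cast
    rw [h1]
    ring
  have h4 : (5 : ℤ) ∣ -1173 * ψ s - ∑ t : S7 with t.IsSwap, ψ (s * t) :=
    J3Type.CharTools.dvd_of_integral (by norm_num) hz h3
  have e : (∑ t : S7 with t.IsSwap, ψ (s * t)) - 2 * ψ s =
      -(-1173 * ψ s - ∑ t : S7 with t.IsSwap, ψ (s * t)) + 5 * (-235 * ψ s) := by ring
  rw [e]
  exact dvd_add (dvd_neg.2 h4) (Dvd.intro _ rfl)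

theorem T_ne (x y : Lt) (h : x ≠ y) : el x ≠ el y := fun h' => h (H838.Fi23.el_inj h')

/-- the values at `1, (12), (12)(34), (123)` -/
theorem vals (h : H174.Ore.Fi23Rk.Vals χ 5987520 (-221760) b c) {β : S7 → ℤ}
    (hβ : ∀ s, (χ : Fi23 → ℂ) (f7 s) = β s) : β 1 = 5987520 ∧ β (Equiv.swap 0 1) = -221760 ∧
      β (Equiv.swap 0 1 * Equiv.swap 2 3) = b ∧ β (Equiv.swap 0 1 * Equiv.swap 1 2) = c := by
  have hd : ∀ x : Lt, IsConj z0 (el x) := fun x => isConj_z0_iff.2 (H838.Fi23.el_mem_DD x)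
  refine ⟨?_, ?_, ?_, ?_⟩
  · have h1 := hβ 1
    rw [map_one, h.one] at h1
    exact_mod_cast h1.symm
  · have h1 := hβ (Equiv.swap 0 1)
    rw [f7_a, h.val_d _ (hd .a)] at h1
    exact_mod_cast h1.symm
  · have h1 := hβ (Equiv.swap 0 1 * Equiv.swap 2 3)
    rw [map_mul, f7_a, f7_c, h.val_c _ _ (hd .a) (hd .c) (T_ne _ _ (by decide)) (lt_comm _ _ (by decide))] at h1
    exact_mod_cast h1.symm
  · have h1 := hβ (Equiv.swap 0 1 * Equiv.swap 1 2)
    rw [map_mul, f7_a, f7_b, h.val_n _ _ (hd .a) (hd .b) ?_] at h1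
    · exact_mod_cast h1.symm
    · intro h2
      have h3 : Equiv.swap (0 : Fin 7) 1 * Equiv.swap 1 2 = Equiv.swap 1 2 * Equiv.swap 0 1 := by
        apply f7_inj
        rw [map_mul, map_mul, f7_a, f7_b, h2]
      revert h3
      decide

end Cfsg.Agent.H66.LD.F23
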