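import Cfsg.Agent.H343.LD.Col
import Cfsg.Agent.H838.FiveMain
import Cfsg.Agent.H856.F23.V7
import Cfsg.Agent.J3Type.CharTools

/-!
# `Fi₂₃`: the element `y5` of order 5, `C(y5) = ⟨y5⟩ × S₇` (helper66)

* `loc` : `Loc 5 (elw y5) (SL L7)`;
* `f7`, `e7` : the isomorphism of `Perm (Fin 7)` with `SL L7`;
* `isConj_f7_iff` : the transpositions of `Fi₂₃` in `SL L7` are the 21 transpositions of `S₇`.
-/

set_option autoImplicit false
set_option linter.unusedSectionVars false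
set_option maxRecDepth 100000

namespace Cfsg.Agent.H66.LD.F23

open Cfsg Subgroup Cfsg.Agent.Lib.PermNet Cfsg.Agent.Fischer.Fi23Hom Cfsg.Agent.LThreeFi23
open Cfsg.Agent.H838.Fi23 (SL el_mem elw_mem DD L7 c7 S7_comm_y5 cent5 y5_pow_S7 q5 q5_conj S7_comm_q5)
open Cfsg.Agent.Characters.Core
open Cfsg.Agent.H343.LD
open Cfsg.Spor (Fi23)
open Cfsg.Agent.Fischer.Fi23Z (z0)

/-- the symmetric group of degree 7 -/
abbrev S7 := Equiv.Perm (Fin 7)

theorem ord5 : orderOf (elw y5 : Fi23) = 5 := by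
  have : Fact (Nat.Prime 5) := ⟨by norm_num⟩
  exact orderOf_eq_prime pow5 y5_ne

theorem zpow_nat (i : ℤ) : ∃ j : ℕ, elw y5 ^ i = elw y5 ^ j := by
  refine ⟨(i % 5).toNat, ?_⟩
  have h1 := zpow_mod_orderOf (elw y5 : Fi23) i
  rw [ord5] at h1
  rw [← h1, ← zpow_natCast, Int.toNat_of_nonneg (Int.emod_nonneg _ (by norm_num))]
  rfl

theorem q5_pow_conj (j : ℕ) : elw q5 ^ j * elw y5 * (elw q5 ^ j)⁻¹ = elw y5 ^ (2 ^ j) := by
  induction j with
  | zero => simp
  | succ j ih =>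
    have h1 : elw q5 ^ (j + 1) * elw y5 * (elw q5 ^ (j + 1))⁻¹ =
        elw q5 * (elw q5 ^ j * elw y5 * (elw q5 ^ j)⁻¹) * (elw q5)⁻¹ := by
      rw [pow_succ']
      group
    rw [h1, ih, ← conj_pow, q5_conj, ← pow_mul]
    congr 1
    rw [pow_succ']

/-- **`C(y5) = ⟨y5⟩ × S₇`** -/
theorem loc : Loc 5 (elw y5 : Fi23) (SL L7) where
  ord := ord5
  le := by
    intro x hx
    rw [mem_centralizer_singleton_iff]
    exact (S7_comm_y5 hx).symm
  dec := by
    intro w hw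
    obtain ⟨i, x, hx, h⟩ := cent5 (mem_centralizer_singleton_iff.1 hw)
    obtain ⟨j, hj⟩ := zpow_nat i
    exact ⟨j, x, hx, by rw [h, hj]⟩
  nmem := by
    intro i hi
    have := y5_pow_S7 (i : ℤ) (by rwa [zpow_natCast])
    rwa [zpow_natCast] at this
  real := by
    intro i hi
    have key : ∀ r : ℕ, r < 5 → r ≠ 0 → ∃ j : ℕ, 2 ^ j % 5 = r := by
      intro r hr h0
      have h4 : r = 1 ∨ r = 2 ∨ r = 3 ∨ r = 4 := by omega
      rcases h4 with rfl | rfl | rfl | rfl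
      · exact ⟨0, rfl⟩
      · exact ⟨1, rfl⟩
      · exact ⟨3, rfl⟩
      · exact ⟨2, rfl⟩
    have hne : i % 5 ≠ 0 := by
      intro h
      have h1 : 5 ∣ i := Nat.dvd_of_mod_eq_zero h
      have h2 := Nat.dvd_gcd h1 (dvd_refl 5)
      rw [Nat.Coprime.gcd_eq_one hi] at h2
      omega
    obtain ⟨j, hj⟩ := key (i % 5) (Nat.mod_lt _ (by norm_num)) hne
    refine ⟨elw q5 ^ j, ?_, ?_⟩
    · rw [q5_pow_conj, pow_eq_pow_iff_modEq, ord5]
      exact hj
    · intro k hk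
      exact ((show Commute k (elw q5) from S7_comm_q5 hk).symm.pow_left j).eq

/-- the subgroup `S₇` -/
noncomputable def f7 : S7 →* Fi23 := H838.Fi23.exists_S7.choose

theorem f7_swap (i : Fin 6) : f7 (Equiv.swap i.castSucc i.succ) = el (c7 i) :=
  H838.Fi23.exists_S7.choose_spec.1 i

theorem f7_range : f7.range = SL L7 := H838.Fi23.exists_S7.choose_spec.2.1

theorem f7_inj : Function.Injective f7 := H838.Fi23.exists_S7.choose_spec.2.2

theorem f7_a : f7 (Equiv.swap 0 1) = el .a := f7_swap 0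
theorem f7_b : f7 (Equiv.swap 1 2) = el .b := f7_swap 1
theorem f7_c : f7 (Equiv.swap 2 3) = el .c := f7_swap 2

/-- the isomorphism onto `SL L7` -/
noncomputable def e7 : S7 ≃* SL L7 := (MonoidHom.ofInjective f7_inj).trans (MulEquiv.subgroupCongr f7_range)

theorem e7_coe (σ : S7) : ((e7 σ : SL L7) : Fi23) = f7 σ := rfl

theorem f7_mem (σ : S7) : f7 σ ∈ SL L7 := by rw [← e7_coe]; exact (e7 σ).2

theorem card_SL7 : Nat.card (SL L7) = 5040 := by
  rw [← f7_range]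
  have h1 : Nat.card S7 = 5040 := by
    rw [Nat.card_eq_fintype_card, Fintype.card_perm, Fintype.card_fin]
    rfl
  rw [← h1]
  exact (Nat.card_congr (MonoidHom.ofInjective f7_inj).toEquiv).symm

/-- the transpositions of `Fi₂₃` that lie in `S₇` are conjugate to `a` in `S₇` -/
theorem exists_of_fixed {p : ℕ} (hp : p < 31671) (h : rho (elw y5) p = p) :
    ∃ g ∈ SL L7, T p = g * el .a * g⁻¹ := by
  have h1 : p ∈ H838.Fi23.da.map Prod.fst ++ [] := by
    apply (LThreeFi23.pchk_mem H838.Fi23.pa p).1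
    refine ⟨hp, ?_⟩
    unfold H838.Fi23.cs0
    rw [LThreeFi23.pat_cons]
    exact ⟨⟨fun h' => absurd h h', fun h' => absurd h' Bool.false_ne_true⟩, fun c hc => absurd hc (by simp)⟩
  rw [List.append_nil] at h1
  obtain ⟨d, hd, rfl⟩ := List.mem_map.1 h1
  obtain ⟨h2, -, h4⟩ := H838.Fi23.stepChk_spec H838.Fi23.sa d hd
  refine ⟨_, h4, ?_⟩
  rw [← h2, T_act _ (by norm_num), T_a]

theorem isConj_z0_iff {x : Fi23} : IsConj z0 x ↔ x ∈ DD := by
  rw [H838.Fi23.DD_eq .z, isConj_iff]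
  constructor
  · rintro ⟨g, hg⟩
    exact ⟨g, hg.symm⟩
  · rintro ⟨g, hg⟩
    exact ⟨g, hg.symm⟩

/-- **2A ∩ `S₇`** -/
theorem isConj_f7_iff {s : S7} : IsConj z0 (f7 s) ↔ s.IsSwap := by
  constructor
  · intro h
    rw [isConj_z0_iff] at h
    have h1 : f7 s ∈ DD ∩ (centralizer ((zpowers (elw y5) : Subgroup Fi23) : Set Fi23) : Set Fi23) := by
      refine ⟨h, ?_⟩
      rw [SetLike.mem_coe, mem_centralizer_iff]
      rintro _ ⟨i, rfl⟩
      exact ((show Commute (elw y5) (f7 s) from S7_comm_y5 (f7_mem s)).zpow_left i).eq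
    obtain ⟨p, hp, h2, h3⟩ := H838.Fi23.mem_DD_centralizer.1 h1
    obtain ⟨g, hg, h4⟩ := exists_of_fixed hp h2
    rw [← f7_range] at hg
    obtain ⟨t, rfl⟩ := hg
    have h5 : s = t * Equiv.swap 0 1 * t⁻¹ := by
      apply f7_inj
      rw [h3, h4, map_mul, map_mul, map_inv, f7_a]
    refine ⟨t 0, t 1, fun h => absurd (t.injective h) (by decide), ?_⟩
    rw [h5, Equiv.swap_apply_apply]
  · rintro ⟨x, y, hxy, rfl⟩
    have h1 : IsConj (Equiv.swap (0 : Fin 7) 1) (Equiv.swap x y) := Equiv.Perm.isConj_swap (by decide) hxy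
    have h2 := f7.map_isConj h1
    rw [f7_a] at h2
    have h3 : IsConj z0 (el .a) := isConj_z0_iff.2 (H838.Fi23.el_mem_DD _)
    exact h3.trans h2

end Cfsg.Agent.H66.LD.F23
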