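import Cfsg.Agent.H66.LD.SplitThree
import Cfsg.Agent.H241.NHMonA
import Cfsg.Agent.S2057
import Cfsg.Agent.S2083

/-!
# The Monster: the centralizer of an element of the class 3C (helper66)

`C(u) = ⟨u⟩ × T` with `T ≅ Th`, and `u` is inverted by an element centralizing `T`.
-/

set_option autoImplicit false
set_option maxRecDepth 100000

namespace Cfsg.Agent.H66.LD.Loc3C

open Cfsg Cfsg.Agent.H241.Mon Cfsg.Agent.MonsterX.MainBasic
open Cfsg.Agent.LThreeMB (fr XX KChart.pi exists_conj_of_conj)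
open Cfsg.Agent.MonsterX Cfsg.Agent.MonsterX.InstData Cfsg.Agent.MonsterX.MainPack Cfsg.Agent.MonsterU
open Subgroup (centralizer zpowers mem_centralizer_singleton_iff)
open Cfsg.Spor (Co1)

theorem fr_inv (s : Co1) : fr s⁻¹ = fr s := by
  apply Nat.card_congr
  exact
    { toFun := fun v => ⟨v.1, by
        have h1 := v.2
        have h2 := congrArg (fun w => s • w) h1
        simp only [smul_inv_smul] at h2
        exact h2.symm⟩
      invFun := fun v => ⟨v.1, by
        have h1 := v.2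
        have h2 := congrArg (fun w => s⁻¹ • w) h1
        simp only [inv_smul_smul] at h2
        exact h2.symm⟩
      left_inv := fun v => rfl
      right_inv := fun v => rfl }

/-- **The local structure of the class 3C.** -/
theorem m0 : ∃ (u n : Gam) (T : Subgroup Gam), orderOf u = 3 ∧ T ≤ centralizer ({u} : Set Gam) ∧
    Nat.card (centralizer ({u} : Set Gam)) = 3 * Nat.card T ∧ u ∉ T ∧ n * u * n⁻¹ = u⁻¹ ∧
    (∀ t ∈ T, n * t * n⁻¹ = t) ∧ Spor.IsoTh T := by
  obtain ⟨v, hv, hfr, ⟨e⟩⟩ := exists_th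
  have hpo : orderOf (KChart.pi MFive.Row.hc v) = 3 := LThreeMB.orderOf_pi chart hv
  obtain ⟨k, hk⟩ := LThreeMB.CoOneFin.coOne.eight (KChart.pi MFive.Row.hc v) (KChart.pi MFive.Row.hc v)⁻¹ hpo
    (by rw [orderOf_inv, hpo]) hfr (by rw [fr_inv, hfr])
  have hv3 : v ^ 3 = 1 := by rw [← hv, pow_orderOf_eq_one]
  obtain ⟨c, hc⟩ := exists_conj_of_conj chart hv3 (y := v⁻¹) (by rw [inv_pow, hv3, inv_one]) (s := k)
    (by rw [hk, map_inv])
  have hv' : orderOf (v : Gam) = 3 := by rw [Subgroup.orderOf_coe, hv]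
  have hn : (c : Gam) * (v : Gam) * (c : Gam)⁻¹ = (v : Gam)⁻¹ := congrArg Subtype.val hc
  have cx := Cfsg.Agent.KFacts.Th.Main.ctx
  have : Finite Cfsg.Spor.Th := cx.fin
  have hs : IsSimpleGroup Cfsg.Spor.Th := Cfsg.Agent.Th.Main1700.isTh.1
  obtain ⟨n, T, h1, h2, h3, h4, h5, h6⟩ := SplitThree.main
    (Cfsg.Agent.H53.OddLift.commutator_eq_top_of_card cx.card (by norm_num)) Cfsg.Agent.S2057.result
    Cfsg.Agent.S2083.result hv' hn e
  exact ⟨v, n, T, hv', h1, h2, h3, h4, h5, h6⟩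

end Cfsg.Agent.H66.LD.Loc3C
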