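import Cfsg.Agent.LThreeMB.Quo
import Cfsg.Prelude.Def_KGroupFacts

/-!
# The centralizer of an element of order 3 with `C(v) / ⟨v⟩` simple without multiplier (helper66)

If `C(v) / ⟨v⟩ ≅ Th`, a perfect group with trivial Schur multiplier and trivial outer automorphism group, and `v` is
real, then `C(v) = ⟨v⟩ × T` with `T ≅ Th`, and `v` is inverted by an element centralizing `T`.
-/

set_option autoImplicit false

namespace Cfsg.Agent.H66.LD.SplitThree

open Cfsg Cfsg.Agent.LThreeMB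
open Subgroup (centralizer zpowers mem_centralizer_singleton_iff)

theorem main {G Th : Type} [Group G] [Finite G] [Group Th] (hperf : _root_.commutator Th = ⊤)
    (hmul : HasCyclicSchurMultiplier Th 1) (hout : Nat.card (Out Th) = 1) {v n0 : G}
    (hv : orderOf v = 3) (hn : n0 * v * n0⁻¹ = v⁻¹) (e : XX v ≃* Th) :
    ∃ (n : G) (T : Subgroup G), T ≤ centralizer ({v} : Set G) ∧
      Nat.card (centralizer ({v} : Set G)) = 3 * Nat.card T ∧ v ∉ T ∧ n * v * n⁻¹ = v⁻¹ ∧
      (∀ t ∈ T, n * t * n⁻¹ = t) ∧ Nonempty (T ≃* Th) := by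
  have hv1 : v ≠ 1 := by
    rintro rfl
    rw [orderOf_one] at hv
    norm_num at hv
  obtain ⟨C, hC⟩ : ∃ C : Subgroup G, C = centralizer ({v} : Set G) := ⟨_, rfl⟩
  let f : ↥(centralizer ({v} : Set G)) →* Th := e.toMonoidHom.comp (QuotientGroup.mk' (Zx v))
  have hf : Function.Surjective f := e.surjective.comp (QuotientGroup.mk'_surjective _)
  have hker : f.ker = Zx v := by
    ext g
    rw [MonoidHom.mem_ker]
    change e (QuotientGroup.mk' (Zx v) g) = 1 ↔ _
    rw [map_eq_one_iff e e.injective]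
    exact QuotientGroup.eq_one_iff g
  have hself : self v ∈ f.ker := by
    rw [hker]
    exact Subgroup.mem_zpowers _
  have hselfo : orderOf (self v) = 3 := by
    rw [← hv]
    exact Subgroup.orderOf_mk v _
  obtain ⟨D, hD⟩ : ∃ D : Subgroup ↥(centralizer ({v} : Set G)), D = _root_.commutator _ := ⟨_, rfl⟩
  have hmap : D.map f = ⊤ := by
    rw [hD, _root_.commutator_def, Subgroup.map_commutator, ← MonoidHom.range_eq_map, MonoidHom.range_eq_top.2 hf,
      ← _root_.commutator_def, hperf]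
  have hnot : self v ∉ D := by
    intro h
    have hst : IsStemExtension f := by
      refine ⟨hf, ?_, ?_⟩
      · rw [hker]
        exact Zx_le_center v
      · rw [hker, Zx, Subgroup.zpowers_le, ← hD]
        exact h
    obtain ⟨π, hπ⟩ := hmul.2 _ f hst
    obtain ⟨a, ha⟩ := hπ ⟨self v, hself⟩
    obtain ⟨b, hb⟩ := hπ 1
    have hab : a = b := Subsingleton.elim _ _
    rw [← hab, ha] at hb
    have h1 : self v = 1 := congrArg Subtype.val hb
    rw [h1, orderOf_one] at hselfo
    norm_num at hselfo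
  have hdis : ∀ d ∈ D, f d = 1 → d = 1 := by
    intro d hd h1
    have h2 : d ∈ Zx v := by rw [← hker]; exact h1
    by_contra hne
    have : Fact (Nat.Prime 3) := ⟨Nat.prime_three⟩
    have hc3 : Nat.card (Zx v) = 3 := by rw [Zx, Nat.card_zpowers, hselfo]
    have : Fact (Nat.card (Zx v)).Prime := ⟨by rw [hc3]; exact Nat.prime_three⟩
    rcases Subgroup.eq_bot_or_eq_top_of_prime_card (D.subgroupOf (Zx v)) with h | h
    · have h3 : (⟨d, h2⟩ : Zx v) ∈ D.subgroupOf (Zx v) := Subgroup.mem_subgroupOf.2 hd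
      rw [h, Subgroup.mem_bot] at h3
      exact hne (congrArg Subtype.val h3)
    · have h3 : (⟨self v, Subgroup.mem_zpowers _⟩ : Zx v) ∈ D.subgroupOf (Zx v) := by rw [h]; trivial
      exact hnot (Subgroup.mem_subgroupOf.1 h3)
  have hbij : Function.Bijective (f.comp D.subtype) := by
    constructor
    · rw [injective_iff_map_eq_one]
      intro d hd
      exact Subtype.ext (hdis d d.2 hd)
    · intro y
      have hy : y ∈ D.map f := by rw [hmap]; trivial
      obtain ⟨d, hd, hdy⟩ := hy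
      exact ⟨⟨d, hd⟩, hdy⟩
  let eD : D ≃* Th := MulEquiv.ofBijective (f.comp D.subtype) hbij
  obtain ⟨T, hT⟩ : ∃ T : Subgroup G, T = D.map (centralizer ({v} : Set G)).subtype := ⟨_, rfl⟩
  have eT0 : T ≃* Th := by
    rw [hT]
    exact (D.equivMapOfInjective (centralizer ({v} : Set G)).subtype
      (Subgroup.subtype_injective _)).symm.trans eD
  have hTcomm : T = ⁅centralizer ({v} : Set G), centralizer ({v} : Set G)⁆ := by
    rw [hT, hD, Subgroup.map_subtype_commutator]
  have hTC : T ≤ centralizer ({v} : Set G) := by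
    rw [hT]
    exact Subgroup.map_subtype_le D
  have hfin : Finite Th := Finite.of_surjective f hf
  have hcard : Nat.card (centralizer ({v} : Set G)) = 3 * Nat.card T := by
    rw [Subgroup.card_eq_card_quotient_mul_card_subgroup (Zx v), Nat.card_congr eT0.toEquiv, Zx,
      Nat.card_zpowers, hselfo, mul_comm]
    congr 1
    exact Nat.card_congr e.toEquiv
  have hvT : v ∉ T := by
    intro h
    rw [hT] at h
    obtain ⟨d, hd, hdv⟩ := h
    apply hnot
    have h1 : d = self v := Subtype.ext hdv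
    rw [← h1]
    exact hd
  -- conjugation by `n0`
  have hnC : ∀ g ∈ centralizer ({v} : Set G), n0 * g * n0⁻¹ ∈ centralizer ({v} : Set G) := by
    intro g hg
    rw [mem_centralizer_singleton_iff] at hg ⊢
    have h1 : g * v⁻¹ = v⁻¹ * g := (show Commute g v from hg).inv_right.eq
    have h2 : v = n0 * v⁻¹ * n0⁻¹ := by
      calc v = (v⁻¹)⁻¹ := (inv_inv v).symm
        _ = (n0 * v * n0⁻¹)⁻¹ := by rw [hn]
        _ = n0 * v⁻¹ * n0⁻¹ := by group
    calc n0 * g * n0⁻¹ * v = n0 * g * n0⁻¹ * (n0 * v⁻¹ * n0⁻¹) := by rw [← h2]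
      _ = n0 * (g * v⁻¹) * n0⁻¹ := by group
      _ = n0 * (v⁻¹ * g) * n0⁻¹ := by rw [h1]
      _ = (n0 * v⁻¹ * n0⁻¹) * (n0 * g * n0⁻¹) := by group
      _ = v * (n0 * g * n0⁻¹) := by rw [← h2]
  have hnT : ∀ t ∈ T, n0 * t * n0⁻¹ ∈ T := by
    intro t ht
    have h1 : (centralizer ({v} : Set G)).map (MulAut.conj n0).toMonoidHom ≤ centralizer ({v} : Set G) := by
      rintro _ ⟨g, hg, rfl⟩
      exact hnC g hg
    have h2 : T.map (MulAut.conj n0).toMonoidHom ≤ T := by
      rw [hTcomm, Subgroup.map_commutator]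
      exact Subgroup.commutator_mono h1 h1
    exact h2 (Subgroup.mem_map_of_mem _ ht)
  let α : T →* T :=
    { toFun := fun t => ⟨n0 * t * n0⁻¹, hnT t t.2⟩
      map_one' := Subtype.ext (by simp)
      map_mul' := fun a b => Subtype.ext (by
        show n0 * ((a * b : T) : G) * n0⁻¹ = (n0 * a * n0⁻¹) * (n0 * b * n0⁻¹)
        rw [Subgroup.coe_mul]
        group) }
  have hαi : Function.Injective α := by
    intro a b hab
    have h1 : n0 * (a : G) * n0⁻¹ = n0 * b * n0⁻¹ := congrArg Subtype.val hab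
    exact Subtype.ext (by simpa using h1)
  have hTfin : Finite T := inferInstance
  let αe : MulAut T := MulEquiv.ofBijective α ((Finite.injective_iff_bijective (f := α)).1 hαi)
  let β : MulAut Th := (eT0.symm.trans αe).trans eT0
  have hβ : β ∈ Inn Th := by
    have h1 : Subsingleton (Out Th) := (Nat.card_eq_one_iff_unique.1 hout).1
    exact (QuotientGroup.eq_one_iff β).1 (Subsingleton.elim _ _)
  obtain ⟨s, hs⟩ := hβ
  obtain ⟨t0, ht0⟩ : ∃ t0 : T, t0 = eT0.symm s := ⟨_, rfl⟩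
  have hconj : ∀ t : T, n0 * (t : G) * n0⁻¹ = t0 * t * (t0 : G)⁻¹ := by
    intro t
    have h1 : β (eT0 t) = s * eT0 t * s⁻¹ := by rw [← hs, MulAut.conj_apply]
    have h2 : β (eT0 t) = eT0 (αe t) := by
      change eT0 (αe (eT0.symm (eT0 t))) = _
      rw [MulEquiv.symm_apply_apply]
    have h3 : αe t = t0 * t * t0⁻¹ := by
      apply eT0.injective
      rw [← h2, h1, map_mul, map_mul, map_inv, ht0, MulEquiv.apply_symm_apply]
    exact congrArg Subtype.val h3
  refine ⟨(t0 : G)⁻¹ * n0, T, hTC, hcard, hvT, ?_, ?_, ⟨eT0⟩⟩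
  · have h1 : (t0 : G) * v = v * t0 := mem_centralizer_singleton_iff.1 (hTC t0.2)
    have h2 : (t0 : G)⁻¹ * v⁻¹ * t0 = v⁻¹ := by
      have h3 : (t0 : G) * v⁻¹ = v⁻¹ * t0 := (show Commute (t0 : G) v from h1).inv_right.eq
      rw [mul_assoc, ← h3]
      group
    calc (t0 : G)⁻¹ * n0 * v * ((t0 : G)⁻¹ * n0)⁻¹ = (t0 : G)⁻¹ * (n0 * v * n0⁻¹) * t0 := by group
      _ = (t0 : G)⁻¹ * v⁻¹ * t0 := by rw [hn]
      _ = v⁻¹ := h2
  · intro t ht
    calc (t0 : G)⁻¹ * n0 * t * ((t0 : G)⁻¹ * n0)⁻¹ = (t0 : G)⁻¹ * (n0 * t * n0⁻¹) * t0 := by group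
      _ = (t0 : G)⁻¹ * (t0 * t * (t0 : G)⁻¹) * t0 := by rw [hconj ⟨t, ht⟩]
      _ = t := by group

end Cfsg.Agent.H66.LD.SplitThree
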